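import Cfsg.Agent.Lib.USixUFour.Core

/-!
The three subgroups `3.U₄(3)`: images of one of them under the diagonal automorphism of `SU₆(2)`.
-/

set_option autoImplicit false
set_option maxRecDepth 100000

namespace CfsgLib.USixUFour

open Matrix CfsgLib.Leech CfsgLib.CosetEnum
open CfsgLib.HePres (K4)
open CfsgLib.Fi22USix (V6 SU62 el code vec vec_code hval nrm)

/-- a power of the diagonal matrix -/
def Dm (j : ℕ) : Matrix (Fin 6) (Fin 6) K4 := diagonal fun i => USixMult.dd i ^ j

/-- the twist of a vector -/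
def dv (j : ℕ) (v : V6) : V6 := fun i => USixMult.dd i ^ j * v i

theorem dm_mulVec (j : ℕ) (v : V6) : Dm j *ᵥ v = dv j v := funext fun i => mulVec_diagonal _ _ i

theorem dd_cube (i : Fin 6) : USixMult.dd i ^ 3 = 1 := by
  have := (USixMult.dd_di i).2.2.1
  rw [pow_succ, pow_two, mul_assoc, this]

theorem dv_inv (j : ℕ) (v : V6) : dv j (dv (2 * j) v) = v ∧ dv (2 * j) (dv j v) = v := by
  constructor <;> funext i <;>
    simp only [dv, ← mul_assoc, ← pow_add, show j + 2 * j = 3 * j by ring, show 2 * j + j = 3 * j by ring] <;>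
    rw [pow_mul, dd_cube, one_pow, one_mul]

theorem dv_inj {j : ℕ} {u v : V6} (h : dv j u = dv j v) : u = v := by
  rw [← (dv_inv j u).2, h, (dv_inv j v).2]

theorem dd_ne (i : Fin 6) (j : ℕ) : USixMult.dd i ^ j ≠ 0 :=
  pow_ne_zero j fun h => by have := dd_cube i; rw [h, zero_pow (by norm_num)] at this; exact zero_ne_one this

theorem dv_hval (j : ℕ) (u v : V6) : hval (dv j u) (dv j v) = hval u v := by
  rw [← Fi22USix.herm_eq, ← Fi22USix.herm_eq]
  refine Finset.sum_congr rfl fun i _ => ?_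
  have h : USixMult.dd i ^ (3 * j) = 1 := by rw [pow_mul, dd_cube, one_pow]
  simp only [dv]
  linear_combination (u i * v i ^ 2) * h

theorem dv_nrm (j : ℕ) (v : V6) : nrm (dv j v) = nrm v := by
  rw [← Fi22USix.herm_self, ← Fi22USix.herm_self, Fi22USix.herm_eq, dv_hval, ← Fi22USix.herm_eq]

theorem dv_smul (j : ℕ) (a : K4) (v : V6) : dv j (a • v) = a • dv j v := funext fun i => by
  simp only [dv, Pi.smul_apply, smul_eq_mul]; ring

theorem dv_inP (j : Fin 3) (v : V6) : InP j (dv j v) ↔ InP 0 v := by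
  have hn : ∀ a b : K4, a ≠ 0 → nz (a * b) = nz b := by decide +kernel
  have hw : wt (dv j v) = wt v := by
    rw [wt_sum, wt_sum]; exact Finset.sum_congr rfl fun i _ => hn _ _ (dd_ne i j)
  have hp : prd (dv j v) = el 2 ^ (j : ℕ) * prd v := by
    rw [prd_prod, prd_prod]
    simp only [dv, Finset.prod_mul_distrib, Fin.prod_univ_six]
    simp [USixMult.dd]
  have hk : ∀ j : Fin 3, ∀ a : K4, el 2 ^ (j : ℕ) * a = el ((j : ℕ) + 1) ↔ a = el 1 := by decide +kernel
  unfold InP
  rw [hw, hp, hk]

/-- the twist of an element -/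
def dg : ℕ → SU62 ≃* SU62
  | 0 => MulEquiv.refl _
  | j + 1 => (dg j).trans USixMult.diagSU

theorem mv_dg : ∀ (j : ℕ) (g : SU62) (v : V6), mv (dg j g) (dv j v) = dv j (mv g v)
  | 0, g, v => by
    have h : ∀ w : V6, dv 0 w = w := fun w => funext fun i => by simp [dv]
    rw [h, h]; rfl
  | j + 1, g, v => by
    have h : ∀ w : V6, dv (j + 1) w = Matrix.diagonal USixMult.dd *ᵥ dv j w := fun w => funext fun i => by
      rw [mulVec_diagonal]; simp only [dv, pow_succ]; ring
    have hd : ∀ w : V6, Matrix.diagonal USixMult.di *ᵥ (Matrix.diagonal USixMult.dd *ᵥ w) = w := fun w => funext fun i => by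
      rw [mulVec_diagonal, mulVec_diagonal, ← mul_assoc, (USixMult.dd_di i).2.1, one_mul]
    show (Matrix.diagonal USixMult.dd * (dg j g).1.1 * Matrix.diagonal USixMult.di) *ᵥ dv (j + 1) v = _
    rw [← mulVec_mulVec, ← mulVec_mulVec, h, hd, h (mv g v), ← mv_dg j g v]
    rfl

/-- the three subgroups -/
noncomputable def subK (j : Fin 3) : Subgroup SU62 := coreK.map (dg j).toMonoidHom

theorem subK_card (j : Fin 3) : Nat.card (subK j) = 9797760 := by
  rw [subK, Subgroup.card_map_of_injective (dg j).injective, coreK_card]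

theorem subK_stab {j : Fin 3} {k : SU62} (hk : k ∈ subK j) (v : V6) : InP j (mv k v) ↔ InP j v := by
  obtain ⟨c, hc, rfl⟩ := hk
  obtain ⟨u, rfl⟩ : ∃ u, dv j u = v := ⟨_, (dv_inv j v).1⟩
  rw [MulEquiv.coe_toMonoidHom, mv_dg, dv_inP, dv_inP, coreK_stab hc u]

theorem stab_pull {j : Fin 3} {k : SU62} (h : ∀ v, InP j v → InP j (mv k v)) : (dg j).symm k ∈ stabP := by
  refine mem_stabP fun v hv => ?_
  rw [← dv_inP j, ← mv_dg, MulEquiv.apply_symm_apply]
  exact h _ ((dv_inP j v).2 hv)

/-- the root of a cover is moved to every vector of the set -/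
theorem cover_move {step : ℕ → ℕ → ℕ} {root : ℕ} {tree : List (List ℕ)} {p : ℕ → Bool} {S : Subgroup SU62}
    (hc : covers step root tree p = true)
    (hs : ∀ x k, k < 4 → ∃ g ∈ S, vec (step x k) = mv g (vec x)) (v : V6) (hv : p (code v) = true) :
    ∃ g ∈ S, v = mv g (vec root) := by
  rw [covers, strict_eq] at hc
  have h := all_vec hc v
  rw [hv, cond_true] at h
  refine vec_code v ▸ spread_spec (P := fun y => ∃ g ∈ S, vec y = mv g (vec root)) ?_ _ _ ?_ _ h
  · rintro x k hk ⟨g, hg, e⟩
    obtain ⟨g', hg', e'⟩ := hs x k hk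
    exact ⟨g' * g, mul_mem hg' hg, by rw [e', e, mv_mul]⟩
  · intro y hy
    rw [Nat.testBit_two_pow, decide_eq_true_eq] at hy
    exact ⟨1, one_mem _, by rw [← hy, mv_one]⟩

theorem stepK_mem (x k : ℕ) : ∃ g ∈ coreK, vec (stepK x k) = mv g (vec x) := by
  have hv : ∀ j : Fin 2, vec (wordC (liftW j) x) = mv (lift j) (vec x) → ∃ g ∈ coreK,
      vec (wordC (liftW j) x) = mv g (vec x) := fun j e =>
    ⟨lift j, Subgroup.mem_sup_left (Subgroup.subset_closure ⟨j, rfl⟩), e⟩
  have hcode : ∀ (w : List ℕ), (∀ u ∈ w, u < 126) → vec (wordC w x) = mv (wordEl w) (vec x) := by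
    intro w
    induction w with
    | nil => intro _; exact (mv_one _).symm
    | cons u w ih =>
      intro hw
      obtain ⟨hu, hw⟩ := List.forall_mem_cons.mp hw
      show vec (strict (wordC w x) fun m => code (tvF u (vec m))) = mv (tvEl u * wordEl w) (vec x)
      rw [strict_eq, vec_code, ih hw, mv_mul, tvEl_apply hu]
  unfold stepK
  cases hk : Nat.blt k 2 with
  | true => exact hv ⟨k, by simpa [Nat.blt_eq] using hk⟩ (hcode _ (lift_bound ⟨k, by simpa [Nat.blt_eq] using hk⟩))
  | false =>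
    obtain ⟨g, hg⟩ := exists_scal Fi22USix.ne_zero_el.2.1
    exact ⟨g, Subgroup.mem_sup_right ⟨_, Fi22USix.ne_zero_el.2.1, hg⟩, by rw [cond_false, vec_code, hg]⟩

theorem unit_move (v : V6) (hv : nrm v = 1) : ∃ g ∈ coreK, mv g (e 0) = v := by
  have hu : ∀ v : V6, nrm v = 1 → ∃ g ∈ coreK, v = mv g (vec unitTreeRoot) := fun v hv =>
    cover_move unit_cover (fun x k _ => stepK_mem x k) v (by rw [isUnit, vec_code, decide_eq_true hv])
  obtain ⟨a, ha, ea⟩ := hu v hv
  obtain ⟨b, hb, eb⟩ := hu (e 0) (nrm_e 0)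
  exact ⟨a * b⁻¹, mul_mem ha (inv_mem hb), by rw [eb, mv_mul, mv_inv, ← ea]⟩

theorem off_move {u v : V6} (hu : isOff (code u) = true) (hv : isOff (code v) = true) :
    ∃ g ∈ coreK, mv g u = v := by
  obtain ⟨a, ha, ea⟩ := cover_move off_cover (fun x k _ => stepK_mem x k) v hv
  obtain ⟨b, hb, eb⟩ := cover_move off_cover (fun x k _ => stepK_mem x k) u hu
  exact ⟨a * b⁻¹, mul_mem ha (inv_mem hb), by rw [eb, mv_mul, mv_inv, ← ea]⟩

theorem inP_number : (List.range 4096).countP (fun n => decide (InP 0 (vec n))) = 378 := by decide +kernel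

theorem inP_iso : ∀ n : Fin 4096, InP 0 (vec n) → nrm (vec n) = 0 ∧ (n : ℕ) ≠ 0 := by decide +kernel

/-- a form preserving map of the points onto themselves has determinant one -/
theorem det_points {M : Matrix (Fin 6) (Fin 6) K4} (hform : ∀ u v, hval (M *ᵥ u) (M *ᵥ v) = hval u v)
    (hP : ∀ v, InP 0 v → InP 0 (M *ᵥ v)) : M.det = 1 := by
  have hu : nrm (M *ᵥ e 0) = 1 := by
    rw [← Fi22USix.herm_self, Fi22USix.herm_eq, hform, ← Fi22USix.herm_eq, Fi22USix.herm_self, nrm_e]
  obtain ⟨k, hk, ek⟩ := unit_move _ hu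
  let N : Matrix (Fin 6) (Fin 6) K4 := (k⁻¹).1.1 * M
  have hN : ∀ v, N *ᵥ v = mv k⁻¹ (M *ᵥ v) := fun v => (mulVec_mulVec v _ _).symm
  have h := fix_frame (M := N) (fun u v => by rw [hN, hN, mv_hval, hform])
    (fun v hv => by rw [hN]; exact (coreK_stab (inv_mem hk) _).2 (hP v hv))
    (by rw [hN, ← ek, mv_inv])
  choose f a hf using h
  have hdet : M.det = N.det := by
    rw [Matrix.det_mul, (k⁻¹).1.2, one_mul]
  have hone : InP 0 (N *ᵥ fun _ => 1) := by
    rw [hN]; exact (coreK_stab (inv_mem hk) _).2 (hP _ (by decide +kernel))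
  have hinjN : Function.Injective fun v : V6 => N *ᵥ v := by
    intro u v h
    funext i
    have key : ∀ w : V6, hval w (e i) = w i := fun w => by
      rw [← Fi22USix.herm_eq]; exact Classical.USixTwoLift.single_right w i
    have hfm : ∀ u v, hval (N *ᵥ u) (N *ᵥ v) = hval u v := fun u v => by rw [hN, hN, mv_hval, hform]
    rw [← key u, ← key v, ← hfm u, ← hfm v]
    exact congrArg (fun w => hval w (N *ᵥ e i)) h
  have hf2 : Function.Injective f := by
    intro i j hij
    by_contra hne
    have h1 : N *ᵥ (a j • e i) = N *ᵥ (a i • e j) := by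
      rw [mulVec_smul, mulVec_smul, hf, hf, hij, smul_comm]
    have := congrFun (hinjN h1) i
    simp [e, hne] at this
    have hz : N *ᵥ e j = N *ᵥ 0 := by rw [hf, this, zero_smul, mulVec_zero]
    have := congrFun (hinjN hz) j
    simp [e] at this
  let π : Equiv.Perm (Fin 6) := Equiv.ofBijective f (Finite.injective_iff_bijective.mp hf2)
  have hM : N = monoMat π a := Matrix.ext fun r i => by
    rw [show N r i = (N *ᵥ e i) r from (congrFun (mulVec_single_one N i) r).symm, hf, monoMat]
    show _ = if r = f i then a i else 0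
    by_cases hr : r = f i
    · subst hr; simp [e]
    · simp [e, hr]
  rw [hdet, hM, monoMat_det]
  have hv : ∀ i, (N *ᵥ fun _ => 1) (π i) = a i := fun i => by
    show ∑ m, N (π i) m * 1 = _
    rw [Finset.sum_eq_single i]
    · rw [hM, monoMat, if_pos rfl, mul_one]
    · intro m _ hm
      rw [hM, monoMat, if_neg (fun e => hm (π.injective e).symm), zero_mul]
    · exact fun h => absurd (Finset.mem_univ i) h
  have hne : ∀ i, a i ≠ 0 := fun i h0 => by
    have hz : N *ᵥ e i = N *ᵥ 0 := by rw [hf, h0, zero_smul, mulVec_zero]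
    have := congrFun (hinjN hz) i
    simp [e] at this
  have hwt : wt (N *ᵥ fun _ => 1) = 6 := by
    have hn : ∀ b : K4, b ≠ 0 → nz b = 1 := by decide +kernel
    rw [wt_sum, ← Equiv.sum_comp π fun i => nz ((N *ᵥ fun _ => 1) i)]
    simp [hv, fun i => hn _ (hne i)]
  rcases hone with h | ⟨-, h⟩
  · omega
  · rw [prd_prod, ← Equiv.prod_comp π fun i => (N *ᵥ fun _ => 1) i] at h
    simp only [hv] at h
    rw [h]
    decide +kernel

/-- the three subgroups are not conjugate -/
theorem subK_distinct {i j : Fin 3} {g : SU62} (h : (subK i).map (MulAut.conj g).toMonoidHom = subK j) :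
    i = j := by
  classical
  have hmove : ∀ v, InP i v → InP j (mv g v) := by
    intro v hv
    by_contra hn
    -- all vectors outside the points of `j` would lie in the image of the points of `i`
    have hoff : ∀ u, isOff (code u) = true → InP i (mv g⁻¹ (dv j u)) := by
      intro u hu
      have hw : isOff (code (dv (2 * j) (mv g v))) = true := by
        obtain ⟨u', rfl⟩ : ∃ u', dv i u' = v := ⟨_, (dv_inv i v).1⟩
        have h0 := inP_iso ⟨code u', Fi22USix.code_lt u'⟩
        simp only [vec_code] at h0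
        obtain ⟨h1, h2⟩ := h0 ((dv_inP i u').1 hv)
        rw [isOff, decide_eq_true_eq, vec_code, dv_nrm, mv_nrm, dv_nrm]
        refine ⟨fun h0 => h2 ?_, h1, fun h0 => hn ?_⟩
        · have hz : dv (2 * j) (mv g (dv i u')) = 0 := by
            rw [← vec_code (dv (2 * j) _), h0]; decide +kernel
          have hzero : ∀ n, dv n (0 : V6) = 0 := fun n => funext fun _ => mul_zero _
          have h1 : mv g (dv i u') = 0 := by rw [← (dv_inv j (mv g (dv i u'))).1, hz, hzero]
          have h2 : dv i u' = 0 := mv_inj (h1.trans (mv_zero g).symm)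
          rw [dv_inj (h2.trans (hzero i).symm)]
          decide +kernel
        · rw [← (dv_inv j (mv g (dv i u'))).1]; exact (dv_inP j _).2 h0
      obtain ⟨c, hc, ec⟩ := off_move hw hu
      have hk : dg j c ∈ subK j := ⟨c, hc, rfl⟩
      rw [← h] at hk
      obtain ⟨k, hk, ek⟩ := hk
      have e1 : dv j u = mv g (mv k v) := by
        rw [← ec, ← mv_dg, (dv_inv j _).1, ← ek]
        show mv (g * k * g⁻¹) (mv g v) = _
        rw [mv_mul, mv_inv, mv_mul]
      rw [e1, mv_inv]
      exact (subK_stab hk v).2 hv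
    have hle : Nat.card {u : V6 // isOff (code u) = true} ≤
        Nat.card {u : V6 // decide (InP 0 (vec (code u))) = true} := by
      refine Nat.card_le_card_of_injective
        (fun u => ⟨dv (2 * i) (mv g⁻¹ (dv j u.1)), ?_⟩) fun a b h => ?_
      · rw [decide_eq_true_eq, vec_code, ← dv_inP i, (dv_inv i _).1]
        exact hoff _ u.2
      · exact Subtype.ext (dv_inj (mv_inj (dv_inj (congrArg Subtype.val h))))
    rw [count_vec isOff, count_vec (fun n => decide (InP 0 (vec n))), off_card, inP_number] at hle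
    omega
  have hd : ((Dm (2 * j)) * g.1.1 * Dm i).det = 1 := by
    refine det_points (fun u v => ?_) fun v hv => ?_
    · rw [← mulVec_mulVec, ← mulVec_mulVec, ← mulVec_mulVec, ← mulVec_mulVec, dm_mulVec, dm_mulVec, dm_mulVec,
        dm_mulVec, dv_hval]
      show hval (mv g _) (mv g _) = _
      rw [mv_hval, dv_hval]
    · rw [← mulVec_mulVec, ← mulVec_mulVec, dm_mulVec, dm_mulVec, ← dv_inP j, (dv_inv j _).1]
      exact hmove _ ((dv_inP i v).2 hv)
  rw [Matrix.det_mul, Matrix.det_mul, g.1.2, mul_one, Dm, Dm, det_diagonal, det_diagonal] at hd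
  simp [Fin.prod_univ_six, USixMult.dd] at hd
  have key : ∀ i j : Fin 3, el 2 ^ (2 * (j : ℕ)) * el 2 ^ (i : ℕ) = 1 → i = j := by decide +kernel
  exact key i j hd

end CfsgLib.USixUFour
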