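import Cfsg.Agent.Lib.USixUFour.Local
import Cfsg.Agent.Lib.Fi22USix.Main

/-!
Every subgroup `3.U₄(3)` of `SU₆(2)` is conjugate to one of the three.
-/

set_option autoImplicit false
set_option maxRecDepth 100000
set_option linter.style.haveILetI false

namespace CfsgLib.USixUFour

open Matrix CfsgLib.Leech CfsgLib.CosetEnum
open CfsgLib.HePres (K4)
open CfsgLib.Fi22USix (V6 SU62 el code vec vec_code hval nrm)

/-- the monomial generators are even -/
theorem step_data : ∀ k : Fin 4, ∃ π : Equiv.Perm (Fin 6), Equiv.Perm.sign π = 1 ∧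
    (∀ i, ((permM.getD k []).getD (π i) 0) = i) ∧
    prd (fun i : Fin 6 => el ((coefM.getD k []).getD i 0)) = 1 := by decide +kernel

variable (F : Type) [Field F] [Fintype F]

/-- a group is a triple cover of `U₄(3)` -/
def Triple (A : Type*) [Group A] : Prop :=
  Nat.card (Subgroup.center A) = 3 ∧ Nonempty (A ⧸ Subgroup.center A ≃* Cfsg.PSU 4 F 3)

variable {F}

theorem triple_congr {A B : Type*} [Group A] [Group B] (e : A ≃* B) (h : Triple F A) : Triple F B := by
  obtain ⟨h3, ⟨f⟩⟩ := h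
  refine ⟨by rw [← h3]; exact Nat.card_congr (Subgroup.centerCongr e).toEquiv.symm, ?_⟩
  refine ⟨(QuotientGroup.congr _ _ e ?_).symm.trans f⟩
  ext x
  constructor
  · rintro ⟨y, hy, rfl⟩
    exact ((Subgroup.centerCongr e) ⟨y, hy⟩).2
  · intro hx
    exact ⟨e.symm x, ((Subgroup.centerCongr e).symm ⟨x, hx⟩).2, e.apply_symm_apply x⟩

theorem core_triple (hF : Fintype.card F = 9) : Triple F coreK := by
  obtain ⟨-, π, hsur, hker, hcen⟩ := core_structure (K := F) hF
  refine ⟨?_, ⟨(QuotientGroup.quotientMulEquivOfEq hker.symm).trans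
    (QuotientGroup.quotientKerEquivOfSurjective π hsur)⟩⟩
  have hsc : scalSub ≤ coreK := le_sup_right
  rw [hcen, Nat.card_congr (Subgroup.subgroupOfEquivOfLe hsc).toEquiv, scal_card]

theorem subK_triple (hF : Fintype.card F = 9) (j : Fin 3) : Triple F (subK j) :=
  triple_congr ((dg j).subgroupMap coreK) (core_triple hF)

theorem triple_card (hF : Fintype.card F = 9) {A : Type*} [Group A] (h : Triple F A) :
    Nat.card A = 9797760 := by
  obtain ⟨h3, ⟨f⟩⟩ := h
  rw [Subgroup.card_eq_card_quotient_mul_card_subgroup (Subgroup.center A), Nat.card_congr f.toEquiv,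
    (UFour.unitary_part hF).1, h3]

variable (hF : Fintype.card F = 9) {K : Subgroup SU62} (hK : Triple F K)
include hF hK

/-- a subgroup of small index covers the group modulo the centre -/
theorem fill (S : Subgroup K) (hS : S.index < 112) (k : K) :
    ∃ s ∈ S, ∃ z ∈ Subgroup.center K, k = s * z := by
  obtain ⟨f⟩ := hK.2
  let q : K →* Cfsg.PSU 4 F 3 := f.toMonoidHom.comp (QuotientGroup.mk' _)
  have hq : Function.Surjective q := f.surjective.comp (QuotientGroup.mk'_surjective _)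
  have htop : S.map q = ⊤ := by
    by_contra hne
    have h1 := (Cfsg.Agent.S2150.result 3 (F := F) (by rw [hF]; norm_num) (by norm_num)).1 _ hne
    have h2 : (S.map q).index ≤ S.index :=
      Nat.le_of_dvd (Nat.pos_of_ne_zero Subgroup.index_ne_zero_of_finite) (S.index_map_dvd hq)
    norm_num at h1
    omega
  obtain ⟨s, hs, e⟩ := (htop ▸ Subgroup.mem_top (q k) : q k ∈ S.map q)
  refine ⟨s, hs, s⁻¹ * k, ?_, by group⟩
  exact QuotientGroup.eq.mp (f.injective e)

/-- a vector with a small orbit spans a fixed line -/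
theorem eigen_of_small (v : V6) (s : Finset V6) (hs : s.card < 112) (ho : ∀ k ∈ K, mv k v ∈ s)
    (hz : ∀ z ∈ Subgroup.center K, ∃ a : K4, mv (z : SU62) v = a • v) :
    ∀ k ∈ K, ∃ a : K4, mv k v = a • v := by
  intro k hk
  letI : MulAction K V6 := MulAction.compHom V6 (act.comp K.subtype)
  have hsmul : ∀ (g : K) (w : V6), g • w = mv g.1 w := fun _ _ => rfl
  have hi : (MulAction.stabilizer K v).index < 112 := by
    rw [MulAction.index_stabilizer]
    refine lt_of_le_of_lt ?_ hs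
    rw [← Set.ncard_coe_finset]
    refine Set.ncard_le_ncard ?_ s.finite_toSet
    rintro _ ⟨g, rfl⟩
    exact ho _ g.2
  obtain ⟨g, hg, z, hzc, e⟩ := fill hF hK _ hi ⟨k, hk⟩
  obtain ⟨a, ha⟩ := hz z hzc
  refine ⟨a, ?_⟩
  have hgv : mv g.1 v = v := MulAction.mem_stabilizer_iff.mp hg
  rw [show k = (g : SU62) * z from congrArg Subtype.val e, mv_mul, ha, mv_smul, hgv]

theorem not_diagonal : ¬ ∀ k ∈ K, ∀ i, ∃ a : K4, mv k (e i) = a • e i := by
  intro h
  have hle : K ≤ monoSub ⊥ := fun k hk => diag_of_eigen (h k hk)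
  have := Subgroup.card_le_of_le hle
  rw [triple_card hF hK, monoSub_card, Subgroup.card_bot] at this
  omega

/-- the centre consists of scalars -/
theorem central_scalar (hT : monoSub sylT ≤ K) {z : SU62} (hz : z ∈ K) (hc : ∀ k ∈ K, z * k = k * z) :
    z ∈ scalSub := by
  obtain ⟨c, hzm⟩ := diag_of_commute (g := z) fun d hd => (hc d (hT (monoSub_mono bot_le hd))).symm
  have hcyc : ∀ π ∈ sylT, ∀ i, c (π i) = c i := by
    intro π hπ i
    have h1 : ∏ _i : Fin 6, (1 : K4) = 1 := by simp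
    have hm : IsMono (monoEl π fun _ => 1) π fun _ => 1 := monoEl_spec h1
    have he := hc _ (hT ⟨π, hπ, _, hm⟩)
    have hx := hzm.mul hm
    rw [he] at hx
    have := congrFun (hx.data (hm.mul hzm)).2 i
    simpa using this
  have hval3 : ∀ i : Fin 6, c i = if i.val < 3 then c 0 else c 3 := by
    have hp : sA 0 = 1 ∧ sA 1 = 2 ∧ sB 3 = 4 ∧ sB 4 = 5 := by decide +kernel
    have hA1 : c 1 = c 0 := by simpa [hp.1] using hcyc sA sA_mem 0
    have hA2 : c 2 = c 1 := by simpa [hp.2.1] using hcyc sA sA_mem 1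
    have hB1 : c 4 = c 3 := by simpa [hp.2.2.1] using hcyc sB sB_mem 3
    have hB2 : c 5 = c 4 := by simpa [hp.2.2.2] using hcyc sB sB_mem 4
    intro i
    fin_cases i <;> simp [hA1, hA2, hB1, hB2]
  have hvz : ∀ v : V6, ∀ i, mv z v i = c i * v i := fun v i => by
    simpa using hzm.apply v i
  by_cases hab : c 0 = c 3
  · refine ⟨c 0, hzm.ne_zero 0, fun v => funext fun i => ?_⟩
    rw [hvz, hval3, ← hab, ite_self]
    rfl
  exfalso
  refine not_diagonal hF hK fun k hk i => ?_
  have hsupp : ∀ l, c l ≠ c i → mv k (e i) l = 0 := by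
    intro l hl
    have h1 : mv z (mv k (e i)) = mv k (mv z (e i)) := by rw [← mv_mul, ← mv_mul, hc k hk]
    rw [hzm i, Equiv.Perm.one_apply, mv_smul] at h1
    have h2 := congrFun h1 l
    rw [hvz, Pi.smul_apply, smul_eq_mul] at h2
    by_contra hne
    exact hl (mul_right_cancel₀ hne h2)
  let s : Finset V6 := Finset.univ.filter fun v => ∀ l, c l ≠ c i → v l = 0
  refine eigen_of_small hF hK (e i) s ?_ (fun k' hk' => ?_) (fun w hw => ?_) k hk
  · refine lt_of_le_of_lt (Finset.card_le_card (t := Finset.univ.filter fun v : V6 =>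
      ∀ l : Fin 6, ¬ (l.val < 3 ↔ i.val < 3) → v l = 0) fun v hv => ?_) (by rw [side_card]; norm_num)
    refine Finset.mem_filter.mpr ⟨Finset.mem_univ _, fun l hl => (Finset.mem_filter.mp hv).2 l ?_⟩
    rw [hval3 l, hval3 i]
    by_cases h1 : l.val < 3 <;> by_cases h2 : i.val < 3
    · exact absurd (iff_of_true h1 h2) hl
    · rw [if_pos h1, if_neg h2]; exact hab
    · rw [if_neg h1, if_pos h2]; exact Ne.symm hab
    · exact absurd (iff_of_false h1 h2) hl
  · refine Finset.mem_filter.mpr ⟨Finset.mem_univ _, fun l hl => ?_⟩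
    have h1 : mv z (mv k' (e i)) = mv k' (mv z (e i)) := by rw [← mv_mul, ← mv_mul, hc k' hk']
    rw [hzm i, Equiv.Perm.one_apply, mv_smul] at h1
    have h2 := congrFun h1 l
    rw [hvz, Pi.smul_apply, smul_eq_mul] at h2
    by_contra hne
    exact hl (mul_right_cancel₀ hne h2)
  · -- a central element is diagonal
    obtain ⟨x, hx⟩ := diag_of_commute (g := (w : SU62)) fun d hd =>
      congrArg Subtype.val (Subgroup.mem_center_iff.mp hw ⟨d, hT (monoSub_mono bot_le hd)⟩)
    exact ⟨x i, by rw [hx i, Equiv.Perm.one_apply]⟩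

theorem scal_center (hT : monoSub sylT ≤ K) : Subgroup.center K = scalSub.subgroupOf K := by
  have hle : Subgroup.center K ≤ scalSub.subgroupOf K := fun z hz => by
    rw [Subgroup.mem_subgroupOf]
    exact central_scalar hF hK hT z.2 fun k hk =>
      (congrArg Subtype.val (Subgroup.mem_center_iff.mp hz ⟨k, hk⟩)).symm
  refine Subgroup.eq_of_le_of_card_ge hle ?_
  rw [hK.1, Nat.card_congr (Subgroup.subgroupOfEquivOfLe ((scal_diag.trans (monoSub_mono bot_le)).trans hT)).toEquiv,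
    scal_card]

/-- an abelian normal subgroup modulo the centre of order 243 is the diagonal one -/
theorem abelian_diag (hT : monoSub sylT ≤ K) {A : Subgroup SU62} (hA : A ≤ monoSub sylT)
    (hcard : Nat.card A = 243) (hcom : ∀ a ∈ A, ∀ b ∈ A, ∀ k ∈ K, a * b * a⁻¹ * b⁻¹ * k = k * (a * b * a⁻¹ * b⁻¹)) :
    A = monoSub ⊥ := by
  classical
  suffices hle : A ≤ monoSub ⊥ by
    refine Subgroup.eq_of_le_of_card_ge hle ?_
    rw [monoSub_card, Subgroup.card_bot, hcard]
  intro g hg
  let φ : A →* Equiv.Perm (Fin 6) := (permHom sylT).comp (Subgroup.inclusion hA)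
  have hspec : ∀ a : A, φ a ∈ sylT ∧ ∃ c, IsMono a.1 (φ a) c := fun a => permHom_spec (Subgroup.inclusion hA a)
  have hrat : ∀ (π : φ.range) (d : φ.ker), ∃ c, IsMono d.1.1 1 c ∧ prd c = 1 ∧ Rat π.1 c := by
    rintro ⟨_, a, rfl⟩ ⟨d, hd⟩
    obtain ⟨-, c, hc⟩ := hspec a
    obtain ⟨-, x, hx⟩ := hspec d
    rw [MonoidHom.mem_ker.mp hd] at hx
    refine ⟨x, hx, (prd_prod x).trans hx.prod, ?_⟩
    have hK' := hA.trans hT
    obtain ⟨s, hs, hsv⟩ := central_scalar hF hK hT
      (mul_mem (mul_mem (mul_mem (hK' a.2) (hK' d.2)) (inv_mem (hK' a.2))) (inv_mem (hK' d.2)))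
      (hcom _ a.2 _ d.2)
    refine ⟨s, fun i => ?_⟩
    have h1 : (a : SU62) * d = (a * d * (a : SU62)⁻¹ * (d : SU62)⁻¹) * ((d : SU62) * a) := by group
    have h3 : mv ((a : SU62) * d) (e i) (φ a i) = (s • mv ((d : SU62) * a) (e i)) (φ a i) := by
      rw [h1, mv_mul, hsv]
    rw [(hc.mul hx) i, (hx.mul hc) i] at h3
    rename' h3 => h2
    simp [e] at h2
    exact mul_left_cancel₀ (hc.ne_zero i) (by rw [h2]; ring)
  have hkerle : ∀ p : V6 → Bool, (∀ d : φ.ker, ∃ c, IsMono d.1.1 1 c ∧ p c = true) →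
      Nat.card φ.ker ≤ (List.range 4096).countP fun n => p (vec n) := by
    intro p hp
    choose c hc hpc using hp
    rw [← count_vec]
    refine Nat.card_le_card_of_injective (fun d => ⟨c d, by simp only [vec_code]; exact hpc d⟩) fun a b h => ?_
    have h' : c a = c b := congrArg Subtype.val h
    exact Subtype.ext (Subtype.ext ((hc a).unique (h' ▸ hc b)))
  by_contra hnot
  have hne : φ ⟨g, hg⟩ ≠ 1 := fun h1 => by
    obtain ⟨-, c, hc⟩ := hspec ⟨g, hg⟩
    rw [h1] at hc
    exact hnot ⟨1, rfl, c, hc⟩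
  have h27 : Nat.card φ.ker ≤ 27 :=
    (hkerle (fun c => decide (prd c = 1) && decide (Rat (φ ⟨g, hg⟩) c)) fun d => by
      obtain ⟨c, h1, h2, h3⟩ := hrat ⟨φ ⟨g, hg⟩, ⟨_, rfl⟩⟩ d
      exact ⟨c, h1, by simp [h2, h3]⟩).trans (rat_count _ (hspec _).1 hne)
  have hcount : Nat.card φ.range * Nat.card φ.ker = 243 := by
    rw [← hcard, Subgroup.card_eq_card_quotient_mul_card_subgroup φ.ker,
      Nat.card_congr (QuotientGroup.quotientKerEquivRange φ).toEquiv]
  have hle9 : φ.range ≤ sylT := by rintro _ ⟨a, rfl⟩; exact (hspec a).1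
  have hr := Subgroup.card_le_of_le hle9
  rw [sylT_card] at hr
  have hrange : φ.range = sylT := Subgroup.eq_of_le_of_card_ge hle9 (by rw [sylT_card]; nlinarith)
  have h9 : Nat.card φ.ker ≤ 9 :=
    (hkerle (fun c => decide (prd c = 1) && (decide (Rat sA c) && decide (Rat sB c))) fun d => by
      obtain ⟨c, h1, h2, h3⟩ := hrat ⟨sA, hrange ▸ sA_mem⟩ d
      obtain ⟨c', h1', -, h3'⟩ := hrat ⟨sB, hrange ▸ sB_mem⟩ d
      obtain rfl : c = c' := (h1.data h1').2
      exact ⟨c, h1, by simp [h2, h3, h3']⟩).trans rat_count_two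
  nlinarith

theorem alt_le (hT : monoSub sylT ≤ K) {H A : Subgroup SU62} (hH : H ≤ K) (hHc : Nat.card H = 87480)
    (hA : A ≤ monoSub sylT) (hAH : A ≤ H) (hAc : Nat.card A = 243) (hn : ∀ h ∈ H, ∀ a ∈ A, h * a * h⁻¹ ∈ A)
    (hcom : ∀ a ∈ A, ∀ b ∈ A, ∀ k ∈ K, a * b * a⁻¹ * b⁻¹ * k = k * (a * b * a⁻¹ * b⁻¹)) :
    monoSub (alternatingGroup (Fin 6)) ≤ K := by
  classical
  obtain rfl := abelian_diag hF hK hT hA hAc hcom
  have hHm : H ≤ monoSub ⊤ := fun h hh => mono_of_normalise fun d hd => by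
    have := hn h⁻¹ (inv_mem hh) d hd
    rwa [inv_inv] at this
  let φ : H →* Equiv.Perm (Fin 6) := (permHom ⊤).comp (Subgroup.inclusion hHm)
  have hspec : ∀ a : H, ∃ c, IsMono a.1 (φ a) c := fun a => (permHom_spec (Subgroup.inclusion hHm a)).2
  have heq : H = monoSub φ.range := by
    refine le_antisymm (fun h hh => ⟨φ ⟨h, hh⟩, ⟨_, rfl⟩, hspec ⟨h, hh⟩⟩) ?_
    rintro g ⟨_, ⟨h, rfl⟩, c, hc⟩
    obtain ⟨x, hx⟩ := hspec h
    have hd : (h : SU62)⁻¹ * g ∈ monoSub ⊥ := ⟨1, rfl, _, by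
      have := hx.inv.mul hc; rwa [inv_mul_cancel] at this⟩
    have := mul_mem h.2 (hAH hd)
    rwa [mul_inv_cancel_left] at this
  have h360 : Nat.card φ.range = 360 := by
    have h := monoSub_card φ.range
    rw [← heq, hHc] at h
    omega
  rw [← alt_unique h360, ← heq]
  exact hH

theorem orbit_dvd (v : V6) : {w | ∃ k ∈ K, mv k v = w}.ncard ∣ 9797760 := by
  letI : MulAction K V6 := MulAction.compHom V6 (act.comp K.subtype)
  have he : {w | ∃ k ∈ K, mv k v = w} = MulAction.orbit K v := Set.ext fun w =>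
    ⟨fun ⟨k, hk, e⟩ => ⟨⟨k, hk⟩, e⟩, fun ⟨g, e⟩ => ⟨g.1, g.2, e⟩⟩
  rw [he, ← triple_card hF hK]
  exact (MulAction.index_stabilizer K v).symm.dvd.trans (Subgroup.index_dvd_card _)

set_option maxHeartbeats 1000000 in
theorem exists_point_class (hT : monoSub sylT ≤ K) (hA6 : monoSub (alternatingGroup (Fin 6)) ≤ K) :
    ∃ j : Fin 3, ∀ k ∈ K, ∀ v, InP j v → InP j (mv k v) := by
  classical
  obtain ⟨O, hOdef⟩ : ∃ O : Set V6, O = {w | ∃ k ∈ K, mv k (Fi22USix.vec 5) = w} := ⟨_, rfl⟩
  have hOm : ∀ w, w ∈ O ↔ ∃ k ∈ K, mv k (Fi22USix.vec 5) = w := fun w => by rw [hOdef]; rfl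
  have hO : ∀ k ∈ K, ∀ v, v ∈ O → mv k v ∈ O := fun k hk v hv => by
    obtain ⟨k', hk', e⟩ := (hOm v).1 hv
    exact (hOm _).2 ⟨k * k', mul_mem hk hk', by rw [mv_mul, e]⟩
  have hO' : ∀ k ∈ K, ∀ v, mv k v ∈ O → v ∈ O := fun k hk v hv => by
    have := hO k⁻¹ (inv_mem hk) _ hv
    rwa [mv_inv] at this
  have h5 : Fi22USix.vec 5 ∈ O := (hOm _).2 ⟨1, one_mem _, mv_one _⟩
  have hiso : ∀ v ∈ O, v ≠ 0 ∧ nrm v = 0 := by
    intro w hw
    obtain ⟨k, hk, rfl⟩ := (hOm w).1 hw
    rw [mv_nrm, ← mv_zero k]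
    refine ⟨fun h => ?_, by decide +kernel⟩
    exact (by decide +kernel : Fi22USix.vec 5 ≠ 0) (mv_inj h)
  have hstep : ∀ x k, k < 4 → ∃ g ∈ monoSub (alternatingGroup (Fin 6)), vec (stepM x k) = mv g (vec x) := by
    intro x k hk
    obtain ⟨π, hπ, hp, hc⟩ := step_data ⟨k, hk⟩
    simp only at hp hc
    rw [prd_prod] at hc
    refine ⟨_, ⟨π, Equiv.Perm.mem_alternatingGroup.mpr hπ, _, monoEl_spec (π := π) hc⟩, ?_⟩
    rw [stepM, vec_code]
    funext r
    obtain ⟨i, rfl⟩ := π.surjective r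
    rw [(monoEl_spec (π := π) hc).apply, monF]
    simp only [hp i]
    congr 2
    exact Fin.ext (Nat.mod_eq_of_lt i.isLt)
  have hclass : ∀ c : Fin 5, ∀ v w : V6, inClass c (code v) = true → inClass c (code w) = true →
      v ∈ O → w ∈ O := by
    intro c v w hv hw hvO
    have hcov : ∃ root tree, covers stepM root tree (inClass c) = true := by
      fin_cases c
      exacts [⟨_, _, class_cover0⟩, ⟨_, _, class_cover1⟩, ⟨_, _, class_cover2⟩, ⟨_, _, class_cover3⟩,
        ⟨_, _, class_cover4⟩]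
    obtain ⟨root, tree, hc⟩ := hcov
    obtain ⟨a, ha, rfl⟩ := cover_move hc hstep v hv
    obtain ⟨b, hb, rfl⟩ := cover_move hc hstep w hw
    exact hO _ (hA6 hb) _ (hO' _ (hA6 ha) _ hvO)
  have hclsv : ∀ v : V6, v ≠ 0 → nrm v = 0 → ∃ c : Fin 5, inClass c (code v) = true := by
    intro v h1 h2
    have h : ∀ n : Fin 4096, (n : ℕ) ≠ 0 → nrm (vec n) = 0 → cls (vec n) < 5 := by decide +kernel
    have hn : code v ≠ 0 := fun h0 => h1 (by rw [← vec_code v, h0]; decide +kernel)
    have := h ⟨code v, Fi22USix.code_lt v⟩ hn (by simp only [vec_code]; exact h2)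
    simp only [vec_code] at this
    exact ⟨⟨cls v, this⟩, by rw [inClass, vec_code, decide_eq_true_eq]; exact ⟨hn, h2, rfl⟩⟩
  let m : Fin 5 → Prop := fun c => ∃ v ∈ O, inClass c (code v) = true
  have hmem : ∀ v : V6, v ∈ O ↔ ∃ c, m c ∧ inClass c (code v) = true := by
    intro v
    constructor
    · intro hv
      obtain ⟨c, hc⟩ := hclsv v (hiso v hv).1 (hiso v hv).2
      exact ⟨c, ⟨v, hv, hc⟩, hc⟩
    · rintro ⟨c, ⟨u, hu, huc⟩, hc⟩
      exact hclass c u v huc hc hu
  have h0 : m 0 := ⟨Fi22USix.vec 5, h5, by decide +kernel⟩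
  obtain ⟨mask, hbit⟩ : ∃ mask : Fin 32, ∀ c : Fin 5, m c ↔ (mask : ℕ).testBit c = true := by
    have hM : ∀ b : Fin 5 → Bool, ∃ M : Fin 32, ∀ c : Fin 5, (M : ℕ).testBit c = b c := by decide +kernel
    obtain ⟨M, hM⟩ := hM fun c => decide (m c)
    exact ⟨M, fun c => by rw [hM, decide_eq_true_eq]⟩
  have hmask : ∀ v : V6, v ∈ O ↔ v ≠ 0 ∧ nrm v = 0 ∧ (mask : ℕ).testBit (cls v) = true := by
    intro v
    constructor
    · intro hv
      obtain ⟨c, hm, hc⟩ := (hmem v).1 hv
      rw [inClass, vec_code, decide_eq_true_eq] at hc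
      exact ⟨(hiso v hv).1, (hiso v hv).2, by rw [hc.2.2]; exact (hbit c).1 hm⟩
    · rintro ⟨h1, h2, h3⟩
      obtain ⟨c, hc⟩ := hclsv v h1 h2
      have hc' := hc
      rw [inClass, vec_code, decide_eq_true_eq] at hc'
      exact (hmem v).2 ⟨c, (hbit c).2 (by rw [← hc'.2.2]; exact h3), hc⟩
  have hcard : O.ncard ∣ 9797760 := by
    rw [hOdef]; exact orbit_dvd hF hK _
  have hcount : O.ncard = (List.range 4096).countP fun n =>
      decide (n ≠ 0 ∧ nrm (vec n) = 0 ∧ (mask : ℕ).testBit (cls (vec n)) = true) := by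
    rw [← count_vec, ← Nat.card_coe_set_eq]
    refine Nat.card_congr (Equiv.subtypeEquivRight fun v => ?_)
    rw [hmask, decide_eq_true_eq, vec_code]
    constructor <;> rintro ⟨a, b, c⟩ <;> refine ⟨fun h => a ?_, b, c⟩
    · rw [← vec_code v, h]; decide +kernel
    · rw [h]; decide +kernel
  have hopts : ∀ M : Fin 32, (M : ℕ).testBit 0 = true → ((List.range 4096).countP fun n =>
      decide (n ≠ 0 ∧ nrm (vec n) = 0 ∧ (M : ℕ).testBit (cls (vec n)) = true)) ∣ 9797760 →
      (M : ℕ) = 1 ∨ (M : ℕ) = 5 ∨ (M : ℕ) = 9 ∨ (M : ℕ) = 17 ∨ (M : ℕ) = 29 := by decide +kernel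
  have hkeep : ∀ j : Fin 3, (mask : ℕ) = 1 + 4 * 2 ^ (j : ℕ) → ∀ k ∈ K, ∀ v, InP j v → InP j (mv k v) := by
    intro j hj k hk v hv
    have h : ∀ j : Fin 3, ∀ n : Fin 4096, InP j (vec n) ↔
        ((n : ℕ) ≠ 0 ∧ nrm (vec n) = 0 ∧ (1 + 4 * 2 ^ (j : ℕ)).testBit (cls (vec n)) = true) := by decide +kernel
    have hiff : ∀ w : V6, InP j w ↔ w ∈ O := fun w => by
      have h' := h j ⟨code w, Fi22USix.code_lt w⟩
      simp only [vec_code] at h'
      rw [h', hmask, hj]
      refine and_congr_left' (not_congr ⟨fun e => ?_, fun e => ?_⟩)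
      · rw [← vec_code w, e]; decide +kernel
      · rw [e]; decide +kernel
    exact (hiff _).2 (hO k hk _ ((hiff v).1 hv))
  have hcls5 : ∀ v : V6, v ∈ O → (mask : ℕ).testBit (cls v) = true := fun v hv => ((hmask v).1 hv).2.2
  rcases hopts mask ((hbit 0).1 h0) (hcount ▸ hcard) with h | h | h | h | h
  · -- the vectors of weight two would be an orbit
    exfalso
    have hcz := scal_center hF hK hT
    have hscal : scalSub ≤ K := (scal_diag.trans (monoSub_mono bot_le)).trans hT
    let S : Subgroup K :=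
      { carrier := {g | ∃ a : K4, mv g.1 (Fi22USix.vec 5) = a • Fi22USix.vec 5}
        one_mem' := ⟨1, by rw [Subgroup.coe_one, mv_one, one_smul]⟩
        mul_mem' := fun {g g'} ⟨a, ha⟩ ⟨b, hb⟩ =>
          ⟨b * a, by rw [Subgroup.coe_mul, mv_mul, hb, mv_smul, ha, smul_smul]⟩
        inv_mem' := fun {g} ⟨a, ha⟩ => ⟨a⁻¹, by
          have h1 : a ≠ 0 := fun h0 => (hiso _ (hO g.1 g.2 _ h5)).1 (by rw [ha, h0, zero_smul])
          have := congrArg (mv g.1⁻¹) ha
          rw [mv_inv, mv_smul] at this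
          rw [Subgroup.coe_inv]
          conv_rhs => rw [this, smul_smul, inv_mul_cancel₀ h1, one_smul]⟩ }
    have hi : Nat.card (K ⧸ S) * 3 ≤ O.ncard := by
      rw [← Nat.card_coe_set_eq, ← scal_card, ← Nat.card_prod]
      refine Nat.card_le_card_of_injective
        (fun p => ⟨mv (p.2 : SU62) (mv (p.1.out : K).1 (Fi22USix.vec 5)), hO _ (hscal p.2.2) _ (hO _ p.1.out.2 _ h5)⟩) ?_
      rintro ⟨x, a⟩ ⟨y, b⟩ e
      have e' : mv (a : SU62) (mv x.out.1 (Fi22USix.vec 5)) = mv (b : SU62) (mv y.out.1 (Fi22USix.vec 5)) := congrArg Subtype.val e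
      obtain ⟨r, hr, hra⟩ := a.2
      obtain ⟨t, ht, htb⟩ := b.2
      rw [hra, htb] at e'
      have hxy : x = y := by
        rw [← x.out_eq', ← y.out_eq']
        refine QuotientGroup.eq.mpr ⟨r * t⁻¹, ?_⟩
        rw [Subgroup.coe_mul, Subgroup.coe_inv, mv_mul]
        have := congrArg (fun v => t⁻¹ • v) e'
        simp only [smul_smul, inv_mul_cancel₀ ht, one_smul] at this
        rw [← this, mv_smul, mv_inv, mul_comm]
      subst hxy
      have hw : mv x.out.1 (Fi22USix.vec 5) ≠ 0 := (hiso _ (hO _ x.out.2 _ h5)).1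
      obtain ⟨i, hi⟩ := Function.ne_iff.mp hw
      have hrt : r = t := mul_right_cancel₀ hi (congrFun e' i)
      obtain rfl : a = b := Subtype.ext (su_ext fun v => by rw [hra, htb, hrt])
      rfl
    have h135 : O.ncard = 135 := by
      have hd : (List.range 4096).countP (fun n =>
          decide (n ≠ 0 ∧ nrm (vec n) = 0 ∧ Nat.testBit 1 (cls (vec n)) = true)) = 135 := by decide +kernel
      rw [hcount, h]
      exact hd
    have hidx : S.index < 112 := by
      show Nat.card (K ⧸ S) < 112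
      omega
    have hline : ∀ k : K, k ∈ S := by
      intro k
      obtain ⟨s, hs, z, hz, e⟩ := fill hF hK S hidx k
      rw [hcz, Subgroup.mem_subgroupOf] at hz
      obtain ⟨a, -, ha⟩ := hz
      rw [e]
      exact mul_mem hs ⟨a, ha _⟩
    have hsmall : O ⊆ Set.range fun a : K4 => a • Fi22USix.vec 5 := by
      intro w hw
      obtain ⟨k, hk, rfl⟩ := (hOm w).1 hw
      obtain ⟨a, ha⟩ := hline ⟨k, hk⟩
      exact ⟨a, ha.symm⟩
    have hb := Set.ncard_le_ncard hsmall (Set.finite_range _)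
    have hb2 : (Set.range fun a : K4 => a • Fi22USix.vec 5).ncard ≤ 4 := by
      rw [← Nat.card_coe_set_eq]
      refine (Finite.card_range_le _).trans ?_
      rw [Nat.card_eq_fintype_card, K4.card_eq]
    omega
  · exact ⟨0, hkeep 0 h⟩
  · exact ⟨1, hkeep 1 h⟩
  · exact ⟨2, hkeep 2 h⟩
  · -- the vectors of weight four would be invariant
    exfalso
    have hin : Fi22USix.vec 1365 ∈ O := by rw [hmask, h]; decide +kernel
    obtain ⟨k, hk, ek⟩ := (hOm _).1 hin
    have hfour : ∀ v, inClass 1 (code v) = true → inClass 1 (code (mv k v)) = true := by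
      intro v hv
      rw [inClass, vec_code, decide_eq_true_eq] at hv
      have hv0 : v ≠ 0 := fun e => hv.1 (by rw [e]; decide +kernel)
      have hk0 : mv k v ≠ 0 := fun e => hv0 (mv_inj (e.trans (mv_zero k).symm))
      have hnO : v ∉ O := fun hv' => by
        have := hcls5 v hv'
        rw [h, hv.2.2] at this
        simp [Nat.testBit] at this
      obtain ⟨c, hc⟩ := hclsv (mv k v) hk0 (by rw [mv_nrm]; exact hv.2.1)
      have hnm : ¬ m c := fun hm => hnO (hO' k hk v ((hmem _).2 ⟨c, hm, hc⟩))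
      rw [hbit, h] at hnm
      have hone : ∀ c : Fin 5, ¬ Nat.testBit 29 c = true → c = 1 := by decide +kernel
      rw [hone c hnm] at hc
      exact hc
    have hle : perpL fourList.flatten (Fi22USix.vec 5) ≥ perpL fourList.flatten (mv k (Fi22USix.vec 5)) := by
      have hc : ∀ v, perpL fourList.flatten v =
          Nat.card {w : V6 // (decide (hval v (vec (code w)) = 0) && inClass 1 (code w)) = true} := fun v => by
        rw [count_vec (fun n => decide (hval v (vec n) = 0) && inClass 1 n), perpL, ← four_list, List.countP_filter]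
      rw [hc, hc, ge_iff_le]
      let f : {w : V6 // inClass 1 (code w) = true} → {w : V6 // inClass 1 (code w) = true} :=
        fun w => ⟨mv k w.1, hfour w.1 w.2⟩
      have hf : Function.Surjective f :=
        Finite.injective_iff_surjective.mp fun a b e => Subtype.ext (mv_inj (congrArg Subtype.val e))
      refine Nat.card_le_card_of_injective (fun w => ⟨mv k⁻¹ w.1, ?_⟩)
        fun a b e => Subtype.ext (mv_inj (congrArg Subtype.val e))
      have hw := w.2
      simp only [Bool.and_eq_true, vec_code, decide_eq_true_eq] at hw ⊢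
      obtain ⟨u, hu⟩ := hf ⟨w.1, hw.2⟩
      have hu' : mv k u.1 = w.1 := congrArg Subtype.val hu
      rw [← hu', mv_inv]
      exact ⟨by rw [← mv_hval k, hu', hw.1], u.2⟩
    rw [ek, Nat.eq_of_beq_eq_true split_perp.1,
      Nat.eq_of_beq_eq_true split_perp.2] at hle
    omega

/-- a subgroup keeping one set of points is the group of that set -/
theorem eq_subK (hT : monoSub sylT ≤ K) {j : Fin 3} (hj : ∀ k ∈ K, ∀ v, InP j v → InP j (mv k v)) :
    K = subK j := by
  refine Subgroup.eq_of_le_of_card_ge ?_ (by rw [subK_card, triple_card hF hK])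
  intro k hk
  let S : Subgroup K := (subK j).subgroupOf K
  have hsq : ∀ g : K, g * g ∈ S := by
    intro g
    rw [Subgroup.mem_subgroupOf, Subgroup.coe_mul]
    refine ⟨_, sq_mem (stab_pull (hj _ g.2)), ?_⟩
    rw [MulEquiv.coe_toMonoidHom, map_mul, MulEquiv.apply_symm_apply]
  have hidx : S.index < 112 := by
    let P : Subgroup SU62 := stabP.map (dg j).toMonoidHom
    have hKP : K ≤ P := fun g hg => ⟨_, stab_pull (hj g hg), by simp⟩
    have hPi : ((subK j).subgroupOf P).index ≤ 2 := by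
      have h := ((subK j).subgroupOf P).card_mul_index
      have hsp : subK j ≤ P := Subgroup.map_mono coreK_stab
      rw [Nat.card_congr (Subgroup.subgroupOfEquivOfLe hsp).toEquiv, subK_card,
        Subgroup.card_map_of_injective (dg j).injective] at h
      have := stab_bound
      nlinarith
    have h2 : S.index ≤ ((subK j).subgroupOf P).index :=
      Subgroup.relIndex_le_of_le_right hKP (Subgroup.index_ne_zero_of_finite)
    omega
  obtain ⟨s, hs, z, hz, e⟩ := fill hF hK S hidx ⟨k, hk⟩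
  rw [scal_center hF hK hT, Subgroup.mem_subgroupOf] at hz
  obtain ⟨a, ha, hza⟩ := hz
  have hz3 : (z : SU62) * z * z = 1 := su_ext fun v => by
    rw [mv_mul, mv_mul, hza, hza, hza, mv_one, smul_smul, smul_smul, mul_assoc, (cube_units a ha).1, one_smul]
  have hzS : (z : SU62) ∈ subK j := by
    have h4 := mul_mem (Subgroup.mem_subgroupOf.mp (hsq z)) (Subgroup.mem_subgroupOf.mp (hsq z))
    rw [Subgroup.coe_mul] at h4
    rwa [show (z : SU62) * z * (z * z) = z by rw [← mul_assoc, hz3, one_mul]] at h4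
  rw [show k = (s : SU62) * z from congrArg Subtype.val e]
  exact mul_mem (Subgroup.mem_subgroupOf.mp hs) hzS

omit hK in
/-- the classification -/
theorem exists_class (hK : Triple F K) :
    ∃ g : SU62, ∃ j : Fin 3, K.map (MulAut.conj g).toMonoidHom = subK j := by
  classical
  haveI : Fact (Nat.Prime 3) := ⟨Nat.prime_three⟩
  obtain ⟨hcard, π, hsur, hker, hcen⟩ := core_structure (K := F) hF
  obtain ⟨f⟩ := hK.2
  let q : K →* Cfsg.PSU 4 F 3 := f.toMonoidHom.comp (QuotientGroup.mk' _)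
  have hq : Function.Surjective q := f.surjective.comp (QuotientGroup.mk'_surjective _)
  have hqk : q.ker = Subgroup.center K := by
    ext x
    rw [MonoidHom.mem_ker]
    show f (QuotientGroup.mk' _ x) = 1 ↔ _
    rw [MulEquiv.map_eq_one_iff, QuotientGroup.mk'_apply, QuotientGroup.eq_one_iff]
  -- subgroups of `K` with the images of two monomial subgroups
  have hsc : scalSub ≤ coreK := le_sup_right
  have hpull : ∀ M : Subgroup SU62, scalSub ≤ M → M ≤ coreK →
      Nat.card (((M.subgroupOf coreK).map π).comap q) = Nat.card M := by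
    intro M h1 h2
    have hc1 := ((M.subgroupOf coreK).map π).index_comap_of_surjective hq
    have hm := (M.subgroupOf coreK).index_map_eq hsur (by
      rw [hker, hcen]; exact fun x hx => h1 hx)
    have a := (((M.subgroupOf coreK).map π).comap q).card_mul_index
    rw [hc1, hm, triple_card hF hK, ← hcard] at a
    have b := (M.subgroupOf coreK).card_mul_index
    rw [← b, Nat.card_congr (Subgroup.subgroupOfEquivOfLe h2).toEquiv] at a
    exact Nat.eq_of_mul_eq_mul_right (Nat.pos_of_ne_zero Subgroup.index_ne_zero_of_finite) a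
  let MH : Subgroup SU62 := monoSub (alternatingGroup (Fin 6))
  let MA : Subgroup SU62 := monoSub ⊥
  have hMA : MA ≤ MH := monoSub_mono bot_le
  let H0 : Subgroup K := ((MH.subgroupOf coreK).map π).comap q
  let A0 : Subgroup K := ((MA.subgroupOf coreK).map π).comap q
  have hH0 : Nat.card H0 = 87480 := by
    rw [show Nat.card H0 = Nat.card MH from hpull MH (scal_diag.trans hMA) alt_core, monoSub_card,
      Nat.card_eq_fintype_card, card_alternatingGroup]
    simp [Nat.factorial]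
  have hA0 : Nat.card A0 = 243 := by
    rw [show Nat.card A0 = Nat.card MA from hpull MA scal_diag (hMA.trans alt_core), monoSub_card,
      Subgroup.card_bot]
  have hAH0 : A0 ≤ H0 := Subgroup.comap_mono (Subgroup.map_mono fun x hx => hMA hx)
  have hn0 : ∀ h ∈ H0, ∀ a ∈ A0, h * a * h⁻¹ ∈ A0 := by
    rintro h ⟨x, hx, ex⟩ a ⟨y, hy, ey⟩
    refine ⟨x * y * x⁻¹, ?_, by rw [map_mul, map_mul, map_inv, ex, ey, map_mul, map_mul, map_inv]⟩
    obtain ⟨σ, -, c, hc⟩ := Subgroup.mem_subgroupOf.mp hx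
    obtain ⟨d, hd⟩ := diag_of (Subgroup.mem_subgroupOf.mp hy)
    refine Subgroup.mem_subgroupOf.mpr ⟨1, rfl, ?_⟩
    have h1 := (hc.mul hd).mul hc.inv
    rw [mul_one, mul_inv_cancel] at h1
    exact ⟨_, h1⟩
  have hcom0 : ∀ a ∈ A0, ∀ b ∈ A0, a * b * a⁻¹ * b⁻¹ ∈ Subgroup.center K := by
    rintro a ⟨x, hx, ex⟩ b ⟨y, hy, ey⟩
    rw [← hqk, MonoidHom.mem_ker, map_mul, map_mul, map_mul, map_inv, map_inv, ← ex, ← ey, ← map_inv,
      ← map_inv, ← map_mul, ← map_mul, ← map_mul]
    obtain ⟨c, hc⟩ := diag_of (Subgroup.mem_subgroupOf.mp hx)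
    obtain ⟨d, hd⟩ := diag_of (Subgroup.mem_subgroupOf.mp hy)
    have e1 : (x : SU62) * y = y * x := (hc.mul hd).unique (by
      convert hd.mul hc using 1
      funext i; simp [mul_comm])
    have e2 : x * y = y * x := Subtype.ext e1
    rw [e2, mul_inv_cancel_right, mul_inv_cancel, map_one]
  -- a Sylow subgroup
  let H1 : Subgroup SU62 := H0.map K.subtype
  let A1 : Subgroup SU62 := A0.map K.subtype
  have hH1 : Nat.card H1 = 87480 := (Subgroup.card_map_of_injective K.subtype_injective).trans hH0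
  have hA1 : Nat.card A1 = 243 := (Subgroup.card_map_of_injective K.subtype_injective).trans hA0
  have hp : IsPGroup 3 (A1.subgroupOf H1) := IsPGroup.of_card (n := 5) (by
    rw [Nat.card_congr (Subgroup.subgroupOfEquivOfLe (Subgroup.map_mono hAH0)).toEquiv, hA1]; rfl)
  obtain ⟨P, hP⟩ := hp.exists_le_sylow
  have hSU : Nat.card SU62 = 27590492160 := by
    have hq := Subgroup.card_eq_card_quotient_mul_card_subgroup (Subgroup.center (Cfsg.SU 6 K4 2))
    obtain ⟨B⟩ := CfsgLib.Classical.Herm.exists_conj_of_card (F := K4) (q := 2) (by rw [K4.card_eq]; norm_num)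
    have hc := CfsgLib.Classical.Herm.card_center B (n := 6) (by norm_num)
    rw [show Nat.card (Cfsg.SU 6 K4 2 ⧸ Subgroup.center (Cfsg.SU 6 K4 2)) = 9196830720 from Fi22USix.card_psu,
      hc] at hq
    norm_num at hq ⊢
    exact hq
  have h7 : ∀ m : ℕ, ¬ 3 ∣ m → (2187 * m).factorization 3 = 7 := by
    intro m hm
    have hm0 : m ≠ 0 := fun h => hm (h ▸ dvd_zero 3)
    rw [show (2187 : ℕ) = 3 ^ 7 by norm_num, Nat.factorization_mul (by norm_num) hm0, Finsupp.add_apply,
      Nat.Prime.factorization_pow Nat.prime_three, Finsupp.single_eq_same,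
      Nat.factorization_eq_zero_of_not_dvd hm]
  have hPc : Nat.card P = 2187 := by
    rw [Sylow.card_eq_multiplicity, hH1, show (87480 : ℕ) = 2187 * 40 by norm_num, h7 _ (by norm_num)]
    norm_num
  let PS : Subgroup SU62 := (P : Subgroup H1).map H1.subtype
  have hPS : Nat.card PS = 2187 := (Subgroup.card_map_of_injective H1.subtype_injective).trans hPc
  have hfac : (3 : ℕ) ^ (Nat.card SU62).factorization 3 = 2187 := by
    rw [hSU, show (27590492160 : ℕ) = 2187 * 12615680 by norm_num, h7 _ (by norm_num)]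
    norm_num
  have hMT : Nat.card (monoSub sylT) = 2187 := by rw [monoSub_card, sylT_card]
  obtain ⟨g, hg⟩ := MulAction.exists_smul_eq SU62 (Sylow.ofCard PS (hPS.trans hfac.symm))
    (Sylow.ofCard (monoSub sylT) (hMT.trans hfac.symm))
  have hg' : PS.map (MulAut.conj g).toMonoidHom = monoSub sylT := congrArg Sylow.toSubgroup hg
  -- move
  let c : SU62 →* SU62 := (MulAut.conj g).toMonoidHom
  have hcinj : Function.Injective c := (MulAut.conj g).injective
  have hK2 : Triple F (K.map c) := triple_congr (K.equivMapOfInjective c hcinj) hK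
  have hPK : PS ≤ K := (Subgroup.map_subtype_le _).trans (Subgroup.map_subtype_le _)
  have hT : monoSub sylT ≤ K.map c := hg' ▸ Subgroup.map_mono hPK
  have hA2 : A1.map c ≤ monoSub sylT := by
    rw [← hg']
    refine Subgroup.map_mono fun a ha => ?_
    exact ⟨⟨a, Subgroup.map_mono hAH0 ha⟩, hP (Subgroup.mem_subgroupOf.mpr ha), rfl⟩
  have hA6 := alt_le hF hK2 hT (H := H1.map c) (A := A1.map c) (Subgroup.map_mono (Subgroup.map_subtype_le _))
    ((Subgroup.card_map_of_injective hcinj).trans hH1) hA2 (Subgroup.map_mono (Subgroup.map_mono hAH0))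
    ((Subgroup.card_map_of_injective hcinj).trans hA1)
    (by
      rintro _ ⟨_, ⟨h, hh, rfl⟩, rfl⟩ _ ⟨_, ⟨a, ha, rfl⟩, rfl⟩
      exact ⟨_, ⟨_, hn0 h hh a ha, rfl⟩, by simp only [map_mul, map_inv]⟩)
    (by
      rintro _ ⟨_, ⟨a, ha, rfl⟩, rfl⟩ _ ⟨_, ⟨b, hb, rfl⟩, rfl⟩ _ ⟨k, hk, rfl⟩
      have := congrArg (fun x : K => c x.1) (Subgroup.mem_center_iff.mp (hcom0 a ha b hb) ⟨k, hk⟩)
      simp only [Subgroup.coe_mul, Subgroup.coe_inv, map_mul, map_inv, Subgroup.coe_subtype] at this ⊢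
      exact this.symm)
  obtain ⟨j, hj⟩ := exists_point_class hF hK2 hT hA6
  exact ⟨g, j, eq_subK hF hK2 hT hj⟩

end CfsgLib.USixUFour
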