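import Cfsg.Agent.Lib.Fi22USix.Model
import Cfsg.Agent.Lib.CosetEnum.Basic
import Cfsg.Agent.Lib.USixUFour.Data

/-!
The 126 isotropic points of a subgroup `3.U₄(3)` of `SU₆(2)`: weights, products and the checks.
-/

set_option autoImplicit false
set_option maxRecDepth 100000

namespace CfsgLib.USixUFour

open Matrix CfsgLib.Leech CfsgLib.CosetEnum
open CfsgLib.HePres (K4)
open CfsgLib.Fi22USix (V6 SU62 el code vec hval nrm)

/-- an entry of a table cut into rows of 16 -/
def at16 (t : List (List ℕ)) (i : ℕ) : ℕ := (t.getD (i / 16) []).getD (i % 16) 0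

/-- nonzero or zero -/
def nz (a : K4) : ℕ := 1 - (1 - a.code.val)

/-- the weight of a vector -/
def wt (v : V6) : ℕ := nz (v 0) + nz (v 1) + nz (v 2) + nz (v 3) + nz (v 4) + nz (v 5)

/-- the product of the coordinates -/
def prd (v : V6) : K4 := v 0 * v 1 * v 2 * v 3 * v 4 * v 5

/-- the points of one subgroup -/
def InP (j : ℕ) (v : V6) : Prop := wt v = 2 ∨ (wt v = 6 ∧ prd v = el (j + 1))

instance (j : ℕ) (v : V6) : Decidable (InP j v) := inferInstanceAs (Decidable (_ ∨ _))

/-- the class of an isotropic vector -/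
def cls (v : V6) : ℕ :=
  bif Nat.beq (wt v) 2 then 0 else bif Nat.beq (wt v) 4 then 1 else (prd v).code.val + 1

/-- the vector of a point -/
def pV (i : ℕ) : V6 := vec (at16 ptCodes i)

/-- the transvection at a point -/
def tvF (i : ℕ) (x : V6) : V6 := x + hval x (pV i) • pV i

/-- a word of transvections on codes -/
noncomputable def wordC (w : List ℕ) (n : ℕ) : ℕ :=
  List.rec (fun n => n) (fun u _ ih n => strict (ih n) fun m => code (tvF u (vec m))) w n

/-- the word of a lift -/
def liftW (j : ℕ) : List ℕ := liftWords.getD j []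

/-- a generator on codes: the two lifts and a scalar -/
noncomputable def stepK (n k : ℕ) : ℕ :=
  bif Nat.blt k 2 then wordC (liftW k) n else code (el 2 • vec n)

/-- the permutations of the monomial generators -/
def permM : List (List ℕ) := [[4, 0, 1, 2, 3, 5], [0, 1, 2, 5, 3, 4], [0, 1, 2, 3, 4, 5], [0, 1, 2, 3, 4, 5]]

/-- the coefficients of the monomial generators -/
def coefM : List (List ℕ) := [[1, 1, 1, 1, 1, 1], [1, 1, 1, 1, 1, 1], [2, 3, 1, 1, 1, 1], [2, 2, 2, 2, 2, 2]]

/-- a monomial generator -/
def monF (k : ℕ) (v : V6) : V6 := fun i =>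
  el ((coefM.getD k []).getD ((permM.getD k []).getD i 0) 0) *
    v ⟨(permM.getD k []).getD i 0 % 6, Nat.mod_lt _ (by norm_num)⟩

/-- a monomial generator on codes -/
noncomputable def stepM (n k : ℕ) : ℕ := code (monF k (vec n))

/-- follow edges -/
noncomputable def spread (step : ℕ → ℕ → ℕ) (es : List ℕ) (M : ℕ) : ℕ :=
  List.rec (fun M => M) (fun e _ ih M =>
    ih (strict (e / 4) fun x => bif M.testBit x then strict (step x (e % 4)) fun y => M ||| 2 ^ y else M)) es M

theorem spread_spec {step : ℕ → ℕ → ℕ} {P : ℕ → Prop} (hs : ∀ x k, k < 4 → P x → P (step x k)) :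
    ∀ (es : List ℕ) (M : ℕ), (∀ y, M.testBit y = true → P y) → ∀ y, (spread step es M).testBit y = true → P y
  | [], _, h, y, hy => h y hy
  | e :: es, M, h, y, hy => by
    refine spread_spec hs es _ ?_ y hy
    intro z hz
    rw [strict_eq] at hz
    cases hb : M.testBit (e / 4) with
    | false => rw [hb, cond_false] at hz; exact h z hz
    | true =>
      rw [hb, cond_true, strict_eq, Nat.testBit_or, Bool.or_eq_true, Nat.testBit_two_pow, decide_eq_true_eq] at hz
      rcases hz with hz | hz
      · exact h z hz
      · exact hz ▸ hs _ _ (Nat.mod_lt _ (by norm_num)) (h _ hb)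

/-- a set of codes is reached from a root -/
noncomputable def covers (step : ℕ → ℕ → ℕ) (root : ℕ) (tree : List (List ℕ)) (p : ℕ → Bool) : Bool :=
  strict (spread step tree.flatten (2 ^ root)) fun M =>
    (List.range 4096).all fun n => bif p n then M.testBit n else true

/-- the vectors of norm one -/
def isUnit (n : ℕ) : Bool := decide (nrm (vec n) = 1)

/-- the isotropic vectors outside the points -/
def isOff (n : ℕ) : Bool := decide (n ≠ 0 ∧ nrm (vec n) = 0 ∧ ¬ InP 0 (vec n))

/-- an isotropic vector of a class -/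
def inClass (c n : ℕ) : Bool := decide (n ≠ 0 ∧ nrm (vec n) = 0 ∧ cls (vec n) = c)

/-- the number of vectors of a list orthogonal to a vector -/
def perpL (l : List ℕ) (v : V6) : ℕ :=
  l.countP fun n => decide (hval v (vec n) = 0)

/-- the vectors of weight two with first coordinate zero -/
def twoRest : List ℕ := twoList.flatten.filter fun n => Nat.beq (n % 4) 0

end CfsgLib.USixUFour
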