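import Cfsg.Agent.Lib.USixUFour.Twist

/-!
A Sylow subgroup of monomial matrices and facts on permutations and coefficient vectors.
-/

set_option autoImplicit false
set_option maxRecDepth 100000

namespace CfsgLib.USixUFour

open Matrix CfsgLib.Leech CfsgLib.CosetEnum
open CfsgLib.HePres (K4)
open CfsgLib.Fi22USix (V6 SU62 el code vec vec_code hval nrm)

/-- a three-cycle on the first three places -/
def sA : Equiv.Perm (Fin 6) := Equiv.swap 0 1 * Equiv.swap 1 2

/-- a three-cycle on the last three places -/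
def sB : Equiv.Perm (Fin 6) := Equiv.swap 3 4 * Equiv.swap 4 5

/-- the Sylow three-subgroup of the permutations -/
def sylT : Subgroup (Equiv.Perm (Fin 6)) where
  carrier := {π | π * sA = sA * π ∧ π * sB = sB * π}
  one_mem' := by simp
  mul_mem' := fun ⟨a, a'⟩ ⟨b, b'⟩ => ⟨Commute.mul_left a b, Commute.mul_left a' b'⟩
  inv_mem' := fun ⟨a, a'⟩ => ⟨Commute.inv_left a, Commute.inv_left a'⟩

instance : DecidablePred (· ∈ sylT) := fun π =>
  inferInstanceAs (Decidable (π * sA = sA * π ∧ π * sB = sB * π))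

theorem sylT_card : Nat.card sylT = 9 := by
  rw [Nat.card_eq_fintype_card]
  decide +kernel

theorem sA_mem : sA ∈ sylT := show sA * sA = sA * sA ∧ sA * sB = sB * sA from ⟨rfl, by decide +kernel⟩

theorem sB_mem : sB ∈ sylT := show sB * sA = sA * sB ∧ sB * sB = sB * sB from ⟨by decide +kernel, rfl⟩

/-- coefficients proportional to their images under a permutation -/
def Rat (π : Equiv.Perm (Fin 6)) (c : V6) : Prop := ∃ a : K4, ∀ i, c i = a * c (π i)

instance (π : Equiv.Perm (Fin 6)) (c : V6) : Decidable (Rat π c) :=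
  inferInstanceAs (Decidable (∃ a : K4, ∀ i, c i = a * c (π i)))

theorem rat_count : ∀ π : Equiv.Perm (Fin 6), π ∈ sylT → π ≠ 1 →
    (List.range 4096).countP (fun n => decide (prd (vec n) = 1) && decide (Rat π (vec n))) ≤ 27 := by
  decide +kernel

theorem rat_count_two : (List.range 4096).countP
    (fun n => decide (prd (vec n) = 1) && (decide (Rat sA (vec n)) && decide (Rat sB (vec n)))) ≤ 9 := by
  decide +kernel

/-- the permutation of a monomial element -/
noncomputable def permHom (P : Subgroup (Equiv.Perm (Fin 6))) : monoSub P →* Equiv.Perm (Fin 6) where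
  toFun g := g.2.choose
  map_one' := by
    obtain ⟨-, c, hc⟩ := (1 : monoSub P).2.choose_spec
    exact (hc.data IsMono.one).1
  map_mul' g h := by
    obtain ⟨-, c, hc⟩ := g.2.choose_spec
    obtain ⟨-, d, hd⟩ := h.2.choose_spec
    obtain ⟨-, x, hx⟩ := (g * h).2.choose_spec
    exact (hx.data (hc.mul hd)).1

theorem permHom_spec {P : Subgroup (Equiv.Perm (Fin 6))} (g : monoSub P) :
    permHom P g ∈ P ∧ ∃ c, IsMono g.1 (permHom P g) c := g.2.choose_spec

theorem monoSub_mono {P Q : Subgroup (Equiv.Perm (Fin 6))} (h : P ≤ Q) : monoSub P ≤ monoSub Q :=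
  fun _ ⟨π, hπ, c, hc⟩ => ⟨π, h hπ, c, hc⟩

theorem diag_of {g : SU62} (h : g ∈ monoSub ⊥) : ∃ c, IsMono g 1 c := by
  obtain ⟨π, hπ, c, hc⟩ := h
  rw [Subgroup.mem_bot.mp hπ] at hc
  exact ⟨c, hc⟩

theorem diag_of_eigen {g : SU62} (h : ∀ i, ∃ a : K4, mv g (e i) = a • e i) : g ∈ monoSub ⊥ := by
  choose a ha using h
  exact ⟨1, rfl, a, fun i => by rw [ha, Equiv.Perm.one_apply]⟩

theorem scal_diag : scalSub ≤ monoSub ⊥ := fun _ ⟨_, _, hg⟩ => ⟨1, rfl, _, scal_mono hg⟩

theorem split_coef : ∀ i k : Fin 6, i ≠ k →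
    (∏ l, (Function.update (Function.update (fun _ => (1 : K4)) i (el 2)) k (el 3)) l) = 1 := by decide +kernel

/-- an eigenvector of all diagonal elements lies on an axis -/
theorem axis_of_eigen {v : V6} (hv : v ≠ 0) (h : ∀ d ∈ monoSub ⊥, ∃ a : K4, mv d v = a • v) :
    ∃ k, ∀ l, l ≠ k → v l = 0 := by
  obtain ⟨k, hk⟩ : ∃ k, v k ≠ 0 := Function.ne_iff.mp hv
  refine ⟨k, fun l hl => ?_⟩
  by_contra hl0
  have hc := monoEl_spec (π := 1) (split_coef l k hl)
  obtain ⟨a, ha⟩ := h _ ⟨1, rfl, _, hc⟩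
  have h1 := congrFun ha l
  have h2 := congrFun ha k
  have a1 := hc.apply v l
  have a2 := hc.apply v k
  rw [Equiv.Perm.one_apply] at a1 a2
  rw [a1] at h1
  rw [a2] at h2
  simp [hl, hk, hl0] at h1 h2
  have hne : el 2 ≠ el 3 := by decide +kernel
  exact hne (h1.trans h2.symm)

/-- an element normalising the diagonal subgroup is monomial -/
theorem mono_of_normalise {g : SU62} (h : ∀ d ∈ monoSub ⊥, g⁻¹ * d * g ∈ monoSub ⊥) :
    g ∈ monoSub ⊤ := by
  obtain ⟨π, c, hc⟩ := mono_of_lines (g := g) fun i => by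
    obtain ⟨k, hk⟩ := axis_of_eigen (v := mv g (e i)) (fun h0 => by
      have h1 : mv g (e i) = mv g 0 := h0.trans (mv_zero g).symm
      have := congrFun (mv_inj h1) i
      simp [e] at this) fun d hd => by
      obtain ⟨c, hc⟩ := diag_of (h d hd)
      refine ⟨c i, ?_⟩
      rw [← mv_mul, show d * g = g * (g⁻¹ * d * g) by group, mv_mul, hc i, Equiv.Perm.one_apply, mv_smul]
    exact ⟨k, _, ext_single hk⟩
  exact ⟨π, trivial, c, hc⟩

/-- an element commuting with the diagonal subgroup is diagonal -/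
theorem diag_of_commute {g : SU62} (h : ∀ d ∈ monoSub ⊥, d * g = g * d) : ∃ c, IsMono g 1 c := by
  obtain ⟨π, -, c, hc⟩ := mono_of_normalise (g := g) fun d hd => by
    rw [mul_assoc, h d hd, inv_mul_cancel_left]; exact hd
  suffices hπ : π = 1 by exact ⟨c, hπ ▸ hc⟩
  refine Equiv.ext fun i => ?_
  by_contra hne
  rw [Equiv.Perm.one_apply] at hne
  have hm := monoEl_spec (π := 1) (split_coef (π i) i hne)
  have h1 := hm.mul hc
  rw [h _ ⟨1, rfl, _, hm⟩] at h1
  have h2 := congrFun (h1.data (hc.mul hm)).2 i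
  rw [Equiv.Perm.one_apply, mul_comm (c i)] at h2
  have h3 := mul_right_cancel₀ (hc.ne_zero i) h2
  rw [Function.update_of_ne hne, Function.update_self, Function.update_self] at h3
  have hne' : el 2 ≠ el 3 := by decide +kernel
  exact hne' h3

theorem side_card : ∀ i : Fin 6, ((Finset.univ : Finset V6).filter fun v =>
    ∀ l : Fin 6, ¬ (l.val < 3 ↔ i.val < 3) → v l = 0).card = 64 := by decide +kernel

/-- a subgroup of order 360 of the permutations of six letters is the alternating group -/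
theorem alt_unique {P : Subgroup (Equiv.Perm (Fin 6))} (h : Nat.card P = 360) :
    P = alternatingGroup (Fin 6) := by
  have hall : Nat.card (Equiv.Perm (Fin 6)) = 720 := by
    rw [Nat.card_perm, Nat.card_eq_fintype_card, Fintype.card_fin]; rfl
  have hi : P.index = 2 := by have := P.card_mul_index; rw [h, hall] at this; omega
  have hle : alternatingGroup (Fin 6) ≤ P := by
    rw [← Equiv.Perm.closure_three_cycles_eq_alternating, Subgroup.closure_le]
    intro σ hσ
    have := mul_mem (Subgroup.mul_self_mem_of_index_two hi σ) (Subgroup.mul_self_mem_of_index_two hi σ)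
    rwa [show σ * σ * (σ * σ) = σ ^ 3 * σ by simp only [pow_succ, pow_zero, one_mul, mul_assoc],
      ← Equiv.Perm.IsThreeCycle.orderOf hσ, pow_orderOf_eq_one, one_mul] at this
  refine (Subgroup.eq_of_le_of_card_ge hle ?_).symm
  rw [h, Nat.card_eq_fintype_card, card_alternatingGroup]
  simp [Nat.factorial]

end CfsgLib.USixUFour
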