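import Cfsg.Agent.Lib.USixUFour.Defs
import Cfsg.Agent.Lib.UFour.ModelChk

/-!
Kernel checks for the subgroup `3.U₄(3)` of `SU₆(2)`.
-/

set_option autoImplicit false
set_option Elab.async false
set_option maxRecDepth 100000

namespace CfsgLib.USixUFour

open Matrix CfsgLib.CosetEnum
open CfsgLib.HePres (K4)
open CfsgLib.Fi22USix (V6 el code vec hval nrm)

theorem pt_ok : (List.range 126).all (fun i =>
    decide (InP 0 (pV i) ∧ hval (pV i) (pV i) = 0 ∧ pV i ≠ 0)) = true := by decide +kernel

theorem pt_nodup : ((List.range 126).flatMap fun i => [1, 2, 3].map fun c => code (el c • pV i)).Nodup := by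
  decide +kernel

theorem pt_all : (List.range 4096).all (fun n => bif decide (InP 0 (vec n)) then
    ((List.range 126).any fun i => [1, 2, 3].any fun c => Nat.beq (code (el c • pV i)) n) else true) = true := by
  decide +kernel

theorem lift_pts : ∀ j : Fin 2, (List.range 126).all (fun i => [1, 2, 3].any fun c =>
    Nat.beq (wordC (liftW j) (at16 ptCodes i))
      (code (el c • pV (Schur.PermTable.ap (UFour.uElts.P j) i)))) = true := by decide +kernel

theorem lift_lt : (List.range 2).all (fun j => (liftW j).all fun u => Nat.blt u 126) = true := by decide +kernel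

end CfsgLib.USixUFour
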