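import Cfsg.Agent.Lib.USixUFour.ChkOrbit

/-!
Kernel checks for the subgroup `3.U₄(3)` of `SU₆(2)`.
-/

set_option autoImplicit false
set_option Elab.async false
set_option maxRecDepth 100000

namespace CfsgLib.USixUFour

open Matrix CfsgLib.CosetEnum
open CfsgLib.HePres (K4)
open CfsgLib.Fi22USix (V6 el code vec hval nrm)

theorem class_cover0 : covers stepM classTree0Root classTree0 (inClass 0) = true := by decide +kernel

theorem class_cover1 : covers stepM classTree1Root classTree1 (inClass 1) = true := by decide +kernel

theorem class_cover2 : covers stepM classTree2Root classTree2 (inClass 2) = true := by decide +kernel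

theorem class_cover3 : covers stepM classTree3Root classTree3 (inClass 3) = true := by decide +kernel

theorem class_cover4 : covers stepM classTree4Root classTree4 (inClass 4) = true := by decide +kernel

end CfsgLib.USixUFour
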