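import Cfsg.Agent.Lib.USixUFour.ChkClass

/-!
Kernel checks for the subgroup `3.U₄(3)` of `SU₆(2)`.
-/

set_option autoImplicit false
set_option Elab.async false
set_option maxRecDepth 100000

namespace CfsgLib.USixUFour

open Matrix CfsgLib.CosetEnum
open CfsgLib.HePres (K4)
open CfsgLib.Fi22USix (V6 el code vec hval nrm)

theorem off_card : (List.range 4096).countP isOff = 1701 := by decide +kernel

theorem unit_card : (List.range 4096).countP isUnit = 2016 := by decide +kernel

theorem class_card : ∀ c : Fin 5, (List.range 4096).countP (inClass c) = [135, 1215, 243, 243, 243].getD c 0 := by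
  decide +kernel

end CfsgLib.USixUFour
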