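import Cfsg.Agent.Lib.USixUFour.ChkList

/-!
Kernel checks for the subgroup `3.U₄(3)` of `SU₆(2)`.
-/

set_option autoImplicit false
set_option Elab.async false
set_option maxRecDepth 100000

namespace CfsgLib.USixUFour

open Matrix CfsgLib.CosetEnum
open CfsgLib.HePres (K4)
open CfsgLib.Fi22USix (V6 el code vec hval nrm)

theorem frame_first0 : ((List.range 512).map fun m => m + 0).all (fun m => bif isUnit (4 * m) then
    bif Nat.beq (wt (vec (4 * m))) 1 then true else Nat.blt (perpL twoRest (vec (4 * m))) 54 else true) = true := by
  decide +kernel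

end CfsgLib.USixUFour
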