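import Cfsg.Agent.Lib.USixUFour.ChkFrame

/-!
Kernel checks for the subgroup `3.U₄(3)` of `SU₆(2)`.
-/

set_option autoImplicit false
set_option Elab.async false
set_option maxRecDepth 100000

namespace CfsgLib.USixUFour

open Matrix CfsgLib.CosetEnum
open CfsgLib.HePres (K4)
open CfsgLib.Fi22USix (V6 el code vec hval nrm)

theorem frame_first1 : ((List.range 512).map fun m => m + 512).all (fun m => bif isUnit (4 * m) then
    bif Nat.beq (wt (vec (4 * m))) 1 then true else Nat.blt (perpL twoRest (vec (4 * m))) 54 else true) = true := by
  decide +kernel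

/-- a unit vector with first coordinate zero and at least 54 orthogonal vectors of weight two is on an axis -/
theorem frame_first (m : ℕ) (hm : m < 1024) (hu : isUnit (4 * m) = true) (h : 54 ≤ perpL twoRest (vec (4 * m))) :
    wt (vec (4 * m)) = 1 := by
  have key : ∀ k, (m ∈ (List.range 512).map fun i => i + 512 * k) →
      ((List.range 512).map fun i => i + 512 * k).all (fun m => bif isUnit (4 * m) then
        bif Nat.beq (wt (vec (4 * m))) 1 then true else Nat.blt (perpL twoRest (vec (4 * m))) 54 else true) = true →
      wt (vec (4 * m)) = 1 := by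
    intro k hk hall
    have := List.all_eq_true.mp hall m hk
    rw [hu, cond_true] at this
    cases hb : Nat.beq (wt (vec (4 * m))) 1 with
    | true => exact Nat.eq_of_beq_eq_true hb
    | false =>
      rw [hb, cond_false, Nat.blt_eq] at this
      omega
  rcases Nat.lt_or_ge m 512 with h5 | h5
  · exact key 0 (List.mem_map.mpr ⟨m, List.mem_range.mpr h5, rfl⟩) frame_first0
  · exact key 1 (List.mem_map.mpr ⟨m - 512, List.mem_range.mpr (by omega), by omega⟩) frame_first1

end CfsgLib.USixUFour
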