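import Cfsg.Agent.Lib.USixUFour.ChkCount

/-!
Kernel checks for the subgroup `3.U₄(3)` of `SU₆(2)`.
-/

set_option autoImplicit false
set_option Elab.async false
set_option maxRecDepth 100000

namespace CfsgLib.USixUFour

open Matrix CfsgLib.CosetEnum
open CfsgLib.HePres (K4)
open CfsgLib.Fi22USix (V6 el code vec hval nrm)

theorem two_list : (List.range 4096).filter (inClass 0) = twoList.flatten := by decide +kernel

theorem four_list : (List.range 4096).filter (inClass 1) = fourList.flatten := by decide +kernel

theorem split_perp : Nat.beq (perpL fourList.flatten (vec 5)) 243 = true ∧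
    Nat.beq (perpL fourList.flatten (vec 1365)) 315 = true := by decide +kernel

end CfsgLib.USixUFour
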