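import Cfsg.Agent.Lib.USixUFour.ChkKeep

/-!
Kernel checks for the subgroup `3.U₄(3)` of `SU₆(2)`.
-/

set_option autoImplicit false
set_option Elab.async false
set_option maxRecDepth 100000

namespace CfsgLib.USixUFour

open Matrix CfsgLib.CosetEnum
open CfsgLib.HePres (K4)
open CfsgLib.Fi22USix (V6 el code vec hval nrm)

theorem unit_cover : covers stepK unitTreeRoot unitTree isUnit = true := by decide +kernel

theorem off_cover : covers stepK offTreeRoot offTree isOff = true := by decide +kernel

end CfsgLib.USixUFour
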