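import Cfsg.Agent.Lib.USixUFour.Points
import Cfsg.Agent.Lib.UFour.Mult
import Cfsg.Agent.Lib.USixMult.Diag
import Cfsg.Agent.S2150

/-!
The subgroup `3.U₄(3)`: its quotient, the bound on the stabilizer of the points, and the monomial group inside.
-/

set_option autoImplicit false
set_option maxRecDepth 100000
set_option linter.style.haveILetI false

namespace CfsgLib.USixUFour

open Matrix CfsgLib.Leech CfsgLib.CosetEnum
open CfsgLib.HePres (K4)
open CfsgLib.Fi22USix (V6 SU62 el code vec vec_code hval nrm)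

theorem count_vec (p : ℕ → Bool) : Nat.card {v : V6 // p (code v) = true} = (List.range 4096).countP p := by
  classical
  rw [List.countP_eq_length_filter, ← List.toFinset_card_of_nodup (List.nodup_range.filter _),
    ← Nat.card_eq_finsetCard]
  refine Nat.card_congr (Equiv.ofBijective (fun v => ⟨code v.1, ?_⟩) ⟨fun a b h => ?_, fun n => ?_⟩)
  · rw [List.mem_toFinset, List.mem_filter]
    exact ⟨List.mem_range.mpr (Fi22USix.code_lt _), v.2⟩
  · exact Subtype.ext (by rw [← vec_code a.1, ← vec_code b.1]; exact congrArg Fi22USix.vec (congrArg Subtype.val h))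
  · have h := n.2
    rw [List.mem_toFinset, List.mem_filter] at h
    have e : code (vec n.1) = n.1 := code_vec ⟨n.1, List.mem_range.mp h.1⟩
    exact ⟨⟨vec n.1, by rw [e]; exact h.2⟩, Subtype.ext e⟩

theorem coreK_closure : coreK = Subgroup.closure (Set.range lift ∪ (scalSub : Set SU62)) := by
  rw [Subgroup.closure_union, Subgroup.closure_eq]; rfl

variable {K : Type} [Field K] [Fintype K]

/-- the quotient of the subgroup -/
theorem core_structure (hK : Fintype.card K = 9) : Nat.card coreK = 9797760 ∧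
    ∃ π : coreK →* Cfsg.PSU 4 K 3, Function.Surjective π ∧ π.ker = Subgroup.center coreK ∧
      Subgroup.center coreK = scalSub.subgroupOf coreK := by
  obtain ⟨e⟩ := Classical.KleinSix.pomega_six_minus (F := UFour.F3) (K := K) (q := 3) (ZMod.card 3)
    (by rw [hK]; rfl) 0 1 UFour.hab
  obtain ⟨ρ, hρ⟩ := UFour.exists_action
  obtain ⟨hcard, -⟩ := UFour.unitary_part hK
  haveI : Finite (Cfsg.POmega UFour.F3 UFour.q6) := Finite.of_equiv _ e.symm.toEquiv
  have hXA : ∀ g ∈ UFour.coverA.gens 0, ∀ i : Fin 126,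
      ((ρ (UFour.X g) i : Fin 126) : ℕ) = UFour.coverA.img g i := by
    intro g hg i
    rcases UFour.gens0 g hg with rfl | rfl
    · exact (hρ 0 i).trans (UFour.genChk 0 i).2.1
    · exact (hρ 1 i).trans (UFour.genChk 1 i).2.1
  obtain ⟨hgen, hinj⟩ := Schur.MonoCover.Data.chain_generates UFour.validA ρ UFour.X hXA (by
    rw [UFour.orbitProd_eq, ← hcard]; exact le_of_eq (Nat.card_congr e.toEquiv))
  let f : coreK →* Equiv.Perm (Fin 126) := pRho.comp (Subgroup.inclusion coreK_stab)
  have hlift : ∀ j : Fin 2, pRho ⟨lift j, lift_stab j⟩ = ρ (UFour.X j) := fun j =>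
    Equiv.ext fun i => Fin.ext ((pRho_lift j i).trans (hρ j i).symm)
  have hle : f.range ≤ ρ.range := by
    rintro _ ⟨⟨x, hx⟩, rfl⟩
    show pRho ⟨x, coreK_stab hx⟩ ∈ ρ.range
    rw [coreK_closure] at hx
    have key : ∀ y (hy : y ∈ Subgroup.closure (Set.range lift ∪ (scalSub : Set SU62))) (h : y ∈ stabP),
        pRho ⟨y, h⟩ ∈ ρ.range := by
      intro y hy
      induction hy using Subgroup.closure_induction with
      | mem z hz =>
        intro h
        rcases hz with ⟨j, rfl⟩ | hz
        · exact ⟨UFour.X j, (hlift j).symm⟩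
        · rw [(pRho_ker ⟨z, h⟩).2 hz]; exact one_mem _
      | one => intro h; rw [show (⟨1, h⟩ : stabP) = 1 from rfl, map_one]; exact one_mem _
      | mul a b ha hb iha ihb =>
        intro h
        have ha' : a ∈ stabP := coreK_stab (coreK_closure ▸ ha)
        have hb' : b ∈ stabP := coreK_stab (coreK_closure ▸ hb)
        rw [show (⟨a * b, h⟩ : stabP) = ⟨a, ha'⟩ * ⟨b, hb'⟩ from rfl, map_mul]
        exact mul_mem (iha ha') (ihb hb')
      | inv a ha iha =>
        intro h
        have ha' : a ∈ stabP := coreK_stab (coreK_closure ▸ ha)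
        rw [show (⟨a⁻¹, h⟩ : stabP) = (⟨a, ha'⟩ : stabP)⁻¹ from rfl, map_inv]
        exact inv_mem (iha ha')
    exact key x hx _
  have hge : ρ.range ≤ f.range := by
    rw [MonoidHom.range_eq_map, ← hgen, MonoidHom.map_closure, Subgroup.closure_le]
    rintro _ ⟨_, ⟨g, hg, rfl⟩, rfl⟩
    rcases UFour.gens0 g hg with rfl | rfl
    · exact ⟨⟨lift 0, Subgroup.mem_sup_left (Subgroup.subset_closure ⟨0, rfl⟩)⟩, hlift 0⟩
    · exact ⟨⟨lift 1, Subgroup.mem_sup_left (Subgroup.subset_closure ⟨1, rfl⟩)⟩, hlift 1⟩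
  let q : ρ.range ≃* Cfsg.PSU 4 K 3 := (MonoidHom.ofInjective hinj).symm.trans e
  let π : coreK →* Cfsg.PSU 4 K 3 :=
    q.toMonoidHom.comp (f.codRestrict ρ.range fun x => hle ⟨x, rfl⟩)
  have hsur : Function.Surjective π := by
    intro y
    obtain ⟨x, hx⟩ := hge (q.symm y).2
    refine ⟨x, ?_⟩
    show q (f.codRestrict ρ.range _ x) = y
    rw [show f.codRestrict ρ.range (fun x => hle ⟨x, rfl⟩) x = q.symm y from Subtype.ext hx, q.apply_symm_apply]
  have hker : π.ker = scalSub.subgroupOf coreK := by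
    ext x
    rw [MonoidHom.mem_ker, Subgroup.mem_subgroupOf]
    show q (f.codRestrict ρ.range _ x) = 1 ↔ _
    rw [MulEquiv.map_eq_one_iff, Subtype.ext_iff]
    exact pRho_ker _
  have hs : scalSub ≤ coreK := le_sup_right
  have hcK : Nat.card coreK = 9797760 := by
    rw [Subgroup.card_eq_card_quotient_mul_card_subgroup π.ker,
      Nat.card_congr (QuotientGroup.quotientKerEquivOfSurjective π hsur).toEquiv, hcard, hker,
      Nat.card_congr (Subgroup.subgroupOfEquivOfLe hs).toEquiv, scal_card]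
  have hcen : Subgroup.center coreK = scalSub.subgroupOf coreK := by
    refine le_antisymm (fun z hz => ?_) fun z hz => ?_
    · rw [← hker, MonoidHom.mem_ker]
      haveI : CharP K 3 := charP_of_card_eq_prime_pow (f := 2) hK
      haveI : Fact (Nat.Prime 3) := ⟨Nat.prime_three⟩
      obtain ⟨B⟩ := Classical.Herm.exists_conj_of_card (F := K) (q := 3) (by rw [hK]; rfl)
      haveI : IsSimpleGroup (Cfsg.PSU 4 K 3) := Classical.Herm.isSimpleGroup B 3 (by norm_num) (by norm_num)
      have hm : π z ∈ Subgroup.center (Cfsg.PSU 4 K 3) := Subgroup.mem_center_iff.mpr fun y => by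
        obtain ⟨x, rfl⟩ := hsur y
        rw [← map_mul, ← map_mul, Subgroup.mem_center_iff.mp hz x]
      rcases Subgroup.Normal.eq_bot_or_eq_top (inferInstance : (Subgroup.center (Cfsg.PSU 4 K 3)).Normal) with h | h
      · rwa [h, Subgroup.mem_bot] at hm
      · exfalso
        letI : CommGroup (Cfsg.PSU 4 K 3) := { (inferInstance : Group (Cfsg.PSU 4 K 3)) with
          mul_comm := fun a b => Subgroup.mem_center_iff.mp (h ▸ Subgroup.mem_top b) a }
        have hp : (Nat.card (Cfsg.PSU 4 K 3)).Prime := IsSimpleGroup.prime_card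
        rw [hcard] at hp
        norm_num at hp
    · exact Subgroup.mem_center_iff.mpr fun y => Subtype.ext (scal_comm hz (y : SU62)).eq.symm
  exact ⟨hcK, π, hsur, hker.trans hcen.symm, hcen⟩

theorem coreK_card : Nat.card coreK = 9797760 := by
  haveI : Fact (Nat.Prime 3) := ⟨Nat.prime_three⟩
  letI : Fintype (GaloisField 3 2) := Fintype.ofFinite _
  exact (core_structure (K := GaloisField 3 2) (by
    rw [← Nat.card_eq_fintype_card, GaloisField.card 3 2 (by norm_num)]; norm_num)).1

theorem mono_of_lines {g : SU62} (h : ∀ i, ∃ k, ∃ a : K4, mv g (e i) = a • e k) : ∃ π c, IsMono g π c := by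
  choose f a hf using h
  have ha : ∀ i, a i ≠ 0 := fun i h0 => by
    have h1 := hf i
    rw [h0, zero_smul, ← mv_zero g] at h1
    have := congrFun (mv_inj h1) i
    simp [e] at this
  have hinj : Function.Injective f := by
    intro i j hij
    by_contra hne
    have h1 : mv g (a j • e i) = mv g (a i • e j) := by
      rw [mv_smul, mv_smul, hf, hf, hij, smul_comm]
    have := congrFun (mv_inj h1) i
    simp [e, hne] at this
    exact ha j this
  exact ⟨Equiv.ofBijective f (Finite.injective_iff_bijective.mp hinj), a, hf⟩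

set_option maxHeartbeats 2000000 in
/-- a map preserving the form and the points fixes the frame if it fixes the first unit vector -/
theorem fix_frame {M : Matrix (Fin 6) (Fin 6) K4} (hform : ∀ u v, hval (M *ᵥ u) (M *ᵥ v) = hval u v)
    (hP : ∀ v, InP 0 v → InP 0 (M *ᵥ v)) (h0 : M *ᵥ e 0 = e 0) : ∀ i, ∃ k, ∃ a : K4, M *ᵥ e i = a • e k := by
  have hinj : Function.Injective fun v : V6 => M *ᵥ v := by
    intro u v h
    funext i
    have key : ∀ w : V6, hval w (e i) = w i := fun w => by
      rw [← Fi22USix.herm_eq]; exact Classical.USixTwoLift.single_right w i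
    rw [← key u, ← key v, ← hform u, ← hform v]
    exact congrArg (fun w => hval w (M *ᵥ e i)) h
  intro i
  by_cases hi : i = 0
  · exact ⟨0, 1, by rw [hi, h0, one_smul]⟩
  have he0 : ∀ w : V6, hval w (e 0) = w 0 := fun w => by
    rw [← Fi22USix.herm_eq]; exact Classical.USixTwoLift.single_right w 0
  have hz : (M *ᵥ e i) 0 = 0 := by
    have h1 := hform (e i) (e 0)
    rw [h0, he0, he0] at h1
    rw [h1]
    simp [e, Ne.symm hi]
  let p : V6 → ℕ → Bool := fun v n =>
    decide (n ≠ 0 ∧ nrm (vec n) = 0 ∧ cls (vec n) = 0) && Nat.beq (n % 4) 0 && decide (hval v (vec n) = 0)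
  have hcount : ∀ v, (List.range 4096).countP (p v) = perpL twoRest v := fun v => by
    rw [perpL, twoRest, ← two_list, List.filter_filter, List.countP_filter]
    refine List.countP_congr fun n _ => ?_
    simp only [p, inClass, Bool.and_eq_true, decide_eq_true_eq]
    tauto
  have hset : ∀ v n, p v n = true ↔
      (n ≠ 0 ∧ nrm (vec n) = 0 ∧ cls (vec n) = 0) ∧ n % 4 = 0 ∧ hval v (vec n) = 0 := fun v n => by
    simp only [p, Bool.and_eq_true, decide_eq_true_eq, Nat.beq_eq]
    tauto
  have hchar : ∀ n : Fin 4096, ((n : ℕ) ≠ 0 ∧ nrm (vec n) = 0 ∧ cls (vec n) = 0) ∧ (n : ℕ) % 4 = 0 ↔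
      InP 0 (vec n) ∧ vec n 0 = 0 := by decide +kernel
  have hmem : ∀ v w : V6, p v (code w) = true ↔ InP 0 w ∧ w 0 = 0 ∧ hval v w = 0 := fun v w => by
    have h := hchar ⟨code w, Fi22USix.code_lt w⟩
    simp only [vec_code] at h
    rw [hset, vec_code, ← and_assoc, h, and_assoc]
  have hle : perpL twoRest (e i) ≤ perpL twoRest (M *ᵥ e i) := by
    rw [← hcount, ← hcount, ← count_vec, ← count_vec]
    refine Nat.card_le_card_of_injective (fun w => ⟨M *ᵥ w.1, ?_⟩)
      fun a b h => Subtype.ext (hinj (congrArg Subtype.val h))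
    obtain ⟨h1, h2, h3⟩ := (hmem _ _).1 w.2
    refine (hmem _ _).2 ⟨hP _ h1, ?_, ?_⟩
    · have h4 := hform w.1 (e 0)
      rw [h0, he0, he0, h2] at h4
      exact h4
    · rw [hform, h3]
  have hval54 : ∀ i : Fin 6, i ≠ 0 → perpL twoRest (e i) = 54 := by decide +kernel
  rw [hval54 i hi] at hle
  have hu : nrm (M *ᵥ e i) = 1 := by
    rw [← Fi22USix.herm_self, Fi22USix.herm_eq, hform, ← Fi22USix.herm_eq, Fi22USix.herm_self, nrm_e]
  obtain ⟨m, hm, e4⟩ : ∃ m < 1024, code (M *ᵥ e i) = 4 * m := by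
    have hd : ∀ n : Fin 4096, vec n 0 = 0 → (n : ℕ) % 4 = 0 := by decide +kernel
    have := hd ⟨_, Fi22USix.code_lt (M *ᵥ e i)⟩ (by simp only [vec_code]; exact hz)
    exact ⟨code (M *ᵥ e i) / 4, by have := Fi22USix.code_lt (M *ᵥ e i); omega, by simp only at this; omega⟩
  have hw := frame_first m hm (by rw [isUnit, ← e4, vec_code, decide_eq_true hu]) (by rw [← e4, vec_code]; exact hle)
  rw [← e4, vec_code] at hw
  obtain ⟨k, -, hk⟩ := wt_one _ hw
  exact ⟨k, _, ext_single hk⟩

theorem unit_number : Nat.card {v : V6 // nrm v = 1} = 2016 := by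
  rw [← unit_card, ← count_vec]
  refine Nat.card_congr (Equiv.subtypeEquivRight fun v => ?_)
  rw [isUnit, vec_code, decide_eq_true_eq]

theorem stab_bound : Nat.card stabP ≤ 2 * 9797760 := by
  classical
  let P0 : Subgroup (Equiv.Perm (Fin 6)) := MulAction.stabilizer (Equiv.Perm (Fin 6)) (0 : Fin 6)
  let S0 : Subgroup SU62 :=
    { carrier := {g | g ∈ stabP ∧ mv g (e 0) = e 0}
      one_mem' := ⟨one_mem _, mv_one _⟩
      mul_mem' := fun ⟨a, a'⟩ ⟨b, b'⟩ => ⟨mul_mem a b, by rw [mv_mul, b', a']⟩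
      inv_mem' := fun {g} ⟨a, a'⟩ => ⟨inv_mem a, by conv_lhs => rw [← a', mv_inv]⟩ }
  have h0 : Nat.card S0 * 3 ≤ 243 * 120 := by
    have hP0 : Nat.card P0 = 120 := by
      rw [Nat.card_eq_fintype_card]
      decide +kernel
    rw [← hP0, ← monoSub_card, ← scal_card, ← Nat.card_prod]
    have hmem : ∀ g ∈ S0, g ∈ monoSub P0 := by
      rintro g ⟨hg, hg0⟩
      obtain ⟨π, c, hc⟩ := mono_of_lines (g := g) (fix_frame (fun u v => mv_hval g u v)
        (fun v hv => (hg v).2 hv) hg0)
      refine ⟨π, ?_, c, hc⟩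
      show π 0 = 0
      by_contra hne
      have := hc 0
      rw [hg0] at this
      have := congrFun this (π 0)
      simp [e, hne] at this
      exact hc.ne_zero 0 this.symm
    have hscal : scalSub ≤ monoSub P0 := fun g ⟨a, _, hg⟩ => ⟨1, one_mem _, _, scal_mono hg⟩
    let f : ↥S0 × ↥scalSub → ↥(monoSub P0) := fun p => ⟨p.1 * p.2, mul_mem (hmem _ p.1.2) (hscal p.2.2)⟩
    refine Nat.card_le_card_of_injective f ?_
    rintro ⟨a, s⟩ ⟨b, t⟩ h
    have h' : (a : SU62) * s = b * t := congrArg Subtype.val h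
    have hd : (b : SU62)⁻¹ * a ∈ scalSub := by
      rw [show (b : SU62)⁻¹ * a = t * (s : SU62)⁻¹ by
        rw [eq_mul_inv_iff_mul_eq, mul_assoc, h', inv_mul_cancel_left]]
      exact mul_mem t.2 (inv_mem s.2)
    obtain ⟨x, hx, hxv⟩ := hd
    have h1 : mv ((b : SU62)⁻¹ * a) (e 0) = e 0 := (mul_mem (inv_mem b.2) a.2 : _ ∈ S0).2
    rw [hxv] at h1
    have hx1 : x = 1 := by simpa [e] using congrFun h1 0
    have hab : (a : SU62) = b := by
      refine (inv_mul_eq_one.mp (su_ext fun v => ?_)).symm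
      rw [hxv, hx1, one_smul, mv_one]
    obtain rfl : a = b := Subtype.ext hab
    obtain rfl : s = t := Subtype.ext (mul_left_cancel h')
    rfl
  let f : stabP → {v : V6 // nrm v = 1} := fun g => ⟨mv g.1 (e 0), by rw [mv_nrm, nrm_e]⟩
  have hle : Nat.card stabP ≤ Nat.card {v : V6 // nrm v = 1} * Nat.card S0 := by
    let r : {v : V6 // nrm v = 1} → stabP := fun v => if h : ∃ g, f g = v then h.choose else 1
    have hr : ∀ g, f (r (f g)) = f g := fun g => by
      have h : ∃ g', f g' = f g := ⟨g, rfl⟩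
      simp only [r, dif_pos h]; exact h.choose_spec
    let F : stabP → {v : V6 // nrm v = 1} × S0 := fun g =>
      (f g, ⟨(r (f g) : SU62)⁻¹ * g, mul_mem (inv_mem (r (f g)).2) g.2, by
        rw [mv_mul, ← show mv (r (f g) : SU62) (e 0) = mv g.1 (e 0) from congrArg Subtype.val (hr g), mv_inv]⟩)
    rw [← Nat.card_prod]
    refine Nat.card_le_card_of_injective F fun a b h => ?_
    simp only [F, Prod.mk.injEq, Subtype.mk.injEq] at h
    rw [h.1] at h
    exact Subtype.ext (mul_left_cancel h.2)
  rw [unit_number] at hle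
  omega

theorem core_index : (coreK.subgroupOf stabP).index ≤ 2 := by
  have h := (coreK.subgroupOf stabP).card_mul_index
  rw [Nat.card_congr (Subgroup.subgroupOfEquivOfLe coreK_stab).toEquiv, coreK_card] at h
  have := stab_bound
  nlinarith

theorem sq_mem {g : SU62} (hg : g ∈ stabP) : g * g ∈ coreK := by
  have hi := core_index
  have hne : (coreK.subgroupOf stabP).index ≠ 0 := Subgroup.index_ne_zero_of_finite
  rcases (show (coreK.subgroupOf stabP).index = 1 ∨ (coreK.subgroupOf stabP).index = 2 by omega) with h | h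
  · have : (⟨g, hg⟩ : stabP) ∈ coreK.subgroupOf stabP := Subgroup.index_eq_one.mp h ▸ Subgroup.mem_top _
    exact mul_mem this this
  · exact Subgroup.mul_self_mem_of_index_two h (⟨g, hg⟩ : stabP)

theorem cube_mem {g : SU62} (hg : g ∈ stabP) (h3 : g ^ 3 = 1) : g ∈ coreK := by
  have := mul_mem (sq_mem hg) (sq_mem hg)
  rwa [show g * g * (g * g) = g by rw [← mul_assoc, ← pow_two, ← pow_succ, ← pow_succ, pow_succ, h3, one_mul]] at this

theorem mono_stab {P : Subgroup (Equiv.Perm (Fin 6))} : monoSub P ≤ stabP :=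
  fun _ ⟨_, _, _, hc⟩ v => hc.inP_iff 0 v

theorem alt_core : monoSub (alternatingGroup (Fin 6)) ≤ coreK := by
  rintro g ⟨π, hπ, c, hc⟩
  have hone : ∏ i, (1 : Fin 6 → K4) i = 1 := by simp
  have hmem : ∀ {g : SU62} {π : Equiv.Perm (Fin 6)} {c : Fin 6 → K4}, IsMono g π c → g ∈ stabP :=
    fun h v => h.inP_iff 0 v
  have hdiag : ∀ {g : SU62} {c : Fin 6 → K4}, IsMono g 1 c → g ∈ coreK := by
    intro g c h
    refine cube_mem (hmem h) ?_
    have h3 := (h.mul h).mul h
    rw [pow_succ, pow_two]
    refine h3.unique ?_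
    convert IsMono.one using 1
    · simp
    · funext i
      simp [mul_assoc, (cube_units (c i) (h.ne_zero i)).1]
  have hperm : monoEl π 1 ∈ coreK := by
    have hx : π ∈ Subgroup.closure {σ : Equiv.Perm (Fin 6) | σ.IsThreeCycle} := by
      rw [Equiv.Perm.closure_three_cycles_eq_alternating]; exact hπ
    clear hπ hc
    induction hx using Subgroup.closure_induction with
    | mem σ hσ =>
      refine cube_mem (hmem (monoEl_spec (π := σ) hone)) ?_
      have h := monoEl_spec (π := σ) hone
      rw [pow_succ, pow_two]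
      refine ((h.mul h).mul h).unique ?_
      convert IsMono.one using 1
      · rw [← pow_two, ← pow_succ, show σ ^ (2 + 1) = σ ^ 3 from rfl, ← hσ.orderOf, pow_orderOf_eq_one]
      · funext i; simp
    | one =>
      rw [(monoEl_spec (π := 1) hone).unique IsMono.one]
      exact one_mem _
    | mul a b _ _ iha ihb =>
      have hh := (monoEl_spec (π := a) hone).mul (monoEl_spec (π := b) hone)
      rw [(monoEl_spec (π := a * b) hone).unique (by convert hh using 1; funext i; simp)]
      exact mul_mem iha ihb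
    | inv a _ iha =>
      have hh := (monoEl_spec (π := a) hone).inv
      rw [(monoEl_spec (π := a⁻¹) hone).unique (by convert hh using 1; funext i; simp)]
      exact inv_mem iha
  have hd : IsMono ((monoEl π 1)⁻¹ * g) 1 c := by
    have := (monoEl_spec (π := π) hone).inv.mul hc
    convert this using 1
    · simp
    · funext i; simp
  have := mul_mem hperm (hdiag hd)
  rwa [mul_inv_cancel_left] at this

end CfsgLib.USixUFour
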