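import Cfsg.Agent.Lib.USixUFour.Defs

/-!
Monomial elements of `SU₆(2)`.
-/

set_option autoImplicit false
set_option maxRecDepth 100000

namespace CfsgLib.USixUFour

open Matrix CfsgLib.Leech
open CfsgLib.HePres (K4)
open CfsgLib.Fi22USix (V6 SU62 el code vec hval nrm)

/-- the image of a vector -/
def mv (g : SU62) (v : V6) : V6 := (g.1 : Matrix (Fin 6) (Fin 6) K4) *ᵥ v

theorem mv_one (v : V6) : mv 1 v = v := by
  show (1 : Matrix (Fin 6) (Fin 6) K4) *ᵥ v = v
  exact Matrix.one_mulVec v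

theorem mv_mul (g h : SU62) (v : V6) : mv (g * h) v = mv g (mv h v) :=
  (Matrix.mulVec_mulVec v (g.1 : Matrix (Fin 6) (Fin 6) K4) (h.1 : Matrix (Fin 6) (Fin 6) K4)).symm

theorem mv_inv (g : SU62) (v : V6) : mv g⁻¹ (mv g v) = v := by rw [← mv_mul, inv_mul_cancel, mv_one]

theorem mv_inj {g : SU62} {u v : V6} (h : mv g u = mv g v) : u = v := by rw [← mv_inv g u, h, mv_inv]

theorem mv_add (g : SU62) (u v : V6) : mv g (u + v) = mv g u + mv g v := Matrix.mulVec_add _ _ _

theorem mv_smul (g : SU62) (c : K4) (v : V6) : mv g (c • v) = c • mv g v := Matrix.mulVec_smul _ _ _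

theorem mv_zero (g : SU62) : mv g 0 = 0 := Matrix.mulVec_zero _

theorem mv_hval (g : SU62) (u v : V6) : hval (mv g u) (mv g v) = hval u v := by
  rw [← Fi22USix.herm_eq, ← Fi22USix.herm_eq]; exact g.2 u v

theorem mv_nrm (g : SU62) (v : V6) : nrm (mv g v) = nrm v := by
  rw [← Fi22USix.herm_self, ← Fi22USix.herm_self]; exact g.2 v v

theorem su_ext {g h : SU62} (e : ∀ v, mv g v = mv h v) : g = h :=
  Subtype.ext (Subtype.ext (Matrix.ext_of_mulVec_single fun i => e _))

/-- the action on vectors -/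
def act : SU62 →* Equiv.Perm V6 where
  toFun g := ⟨mv g, mv g⁻¹, mv_inv g, fun v => by rw [← mv_mul, mul_inv_cancel, mv_one]⟩
  map_one' := Equiv.ext fun v => mv_one v
  map_mul' g h := Equiv.ext fun v => mv_mul g h v

/-- a unit vector -/
def e (i : Fin 6) : V6 := Pi.single i 1

theorem nrm_e : ∀ i : Fin 6, nrm (e i) = 1 := by decide +kernel

theorem wt_e : ∀ i : Fin 6, wt (e i) = 1 := by decide +kernel

theorem wt_one : ∀ v : V6, wt v = 1 → ∃ i, v i ≠ 0 ∧ ∀ k, k ≠ i → v k = 0 := by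
  intro v hv
  have hnz : ∀ a : K4, (nz a = 0 ∧ a = 0) ∨ (nz a = 1 ∧ a ≠ 0) := by decide +kernel
  unfold wt at hv
  rcases hnz (v 0) with ⟨h0, z0⟩ | ⟨h0, z0⟩ <;> rcases hnz (v 1) with ⟨h1, z1⟩ | ⟨h1, z1⟩ <;>
    rcases hnz (v 2) with ⟨h2, z2⟩ | ⟨h2, z2⟩ <;> rcases hnz (v 3) with ⟨h3, z3⟩ | ⟨h3, z3⟩ <;>
    rcases hnz (v 4) with ⟨h4, z4⟩ | ⟨h4, z4⟩ <;> rcases hnz (v 5) with ⟨h5, z5⟩ | ⟨h5, z5⟩ <;>
    first
    | omega
    | (refine ⟨0, z0, fun k hk => ?_⟩; fin_cases k <;> first | exact absurd rfl hk | assumption)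
    | (refine ⟨1, z1, fun k hk => ?_⟩; fin_cases k <;> first | exact absurd rfl hk | assumption)
    | (refine ⟨2, z2, fun k hk => ?_⟩; fin_cases k <;> first | exact absurd rfl hk | assumption)
    | (refine ⟨3, z3, fun k hk => ?_⟩; fin_cases k <;> first | exact absurd rfl hk | assumption)
    | (refine ⟨4, z4, fun k hk => ?_⟩; fin_cases k <;> first | exact absurd rfl hk | assumption)
    | (refine ⟨5, z5, fun k hk => ?_⟩; fin_cases k <;> first | exact absurd rfl hk | assumption)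

theorem wt_sum (v : V6) : wt v = ∑ i, nz (v i) := by rw [Fin.sum_univ_six]; rfl

theorem prd_prod (v : V6) : prd v = ∏ i, v i := by rw [Fin.prod_univ_six]; rfl

theorem ext_single {v : V6} {i : Fin 6} (h : ∀ k, k ≠ i → v k = 0) : v = v i • e i := by
  funext k
  by_cases hk : k = i
  · subst hk; simp [e]
  · simp [e, h k hk, hk]

theorem col_eq (g : SU62) (i k : Fin 6) : mv g (e i) k = (g.1 : Matrix (Fin 6) (Fin 6) K4) k i :=
  congrFun (Matrix.mulVec_single_one _ i) k

/-- a monomial element with its permutation and coefficients -/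
def IsMono (g : SU62) (π : Equiv.Perm (Fin 6)) (c : Fin 6 → K4) : Prop :=
  ∀ i, mv g (e i) = c i • e (π i)

theorem IsMono.entry {g : SU62} {π : Equiv.Perm (Fin 6)} {c : Fin 6 → K4} (h : IsMono g π c) (k i : Fin 6) :
    (g.1 : Matrix (Fin 6) (Fin 6) K4) k i = if k = π i then c i else 0 := by
  rw [← col_eq, h i]
  by_cases hk : k = π i
  · subst hk; simp [e]
  · simp [e, hk]

theorem IsMono.apply {g : SU62} {π : Equiv.Perm (Fin 6)} {c : Fin 6 → K4} (h : IsMono g π c) (v : V6) (i : Fin 6) :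
    mv g v (π i) = c i * v i := by
  show ∑ m, (g.1 : Matrix (Fin 6) (Fin 6) K4) (π i) m * v m = _
  rw [Finset.sum_eq_single i]
  · rw [h.entry, if_pos rfl]
  · intro m _ hm
    rw [h.entry, if_neg (fun e => hm (π.injective e).symm), zero_mul]
  · exact fun h => absurd (Finset.mem_univ i) h

theorem IsMono.ne_zero {g : SU62} {π : Equiv.Perm (Fin 6)} {c : Fin 6 → K4} (h : IsMono g π c) (i : Fin 6) :
    c i ≠ 0 := by
  intro hc
  have h1 := h i
  rw [hc, zero_smul, ← mv_zero g] at h1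
  have := congrFun (mv_inj h1) i
  simp [e] at this

theorem cube_units : ∀ a : K4, a ≠ 0 → a * (a * a) = 1 ∧ a ^ 6 = 1 := by decide +kernel

theorem k4_neg : (-1 : K4) = 1 := by decide +kernel

/-- the matrix with given permutation and coefficients -/
def monoMat (π : Equiv.Perm (Fin 6)) (c : Fin 6 → K4) : Matrix (Fin 6) (Fin 6) K4 :=
  fun k i => if k = π i then c i else 0

theorem monoMat_det (π : Equiv.Perm (Fin 6)) (c : Fin 6 → K4) : (monoMat π c).det = ∏ i, c i := by
  have e : monoMat π c = (Equiv.Perm.permMatrix K4 π⁻¹) * Matrix.diagonal c := by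
    ext k i
    rw [Matrix.mul_diagonal, monoMat, Equiv.Perm.permMatrix, PEquiv.toMatrix_apply]
    by_cases hk : k = π i
    · subst hk; simp
    · have : ¬ π.symm k = i := fun e => hk (by rw [← e]; simp)
      simp [hk, this]
  rw [e, Matrix.det_mul, Matrix.det_permutation, Matrix.det_diagonal]
  rcases Int.units_eq_one_or (Equiv.Perm.sign π⁻¹) with h | h <;> rw [h] <;> simp [k4_neg]

theorem IsMono.prod {g : SU62} {π : Equiv.Perm (Fin 6)} {c : Fin 6 → K4} (h : IsMono g π c) : ∏ i, c i = 1 := by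
  rw [← monoMat_det π c, ← show (g.1 : Matrix (Fin 6) (Fin 6) K4) = monoMat π c from Matrix.ext h.entry]
  exact g.1.2

theorem exists_mono (π : Equiv.Perm (Fin 6)) (c : Fin 6 → K4) (hc : ∏ i, c i = 1) : ∃ g, IsMono g π c := by
  have happ : ∀ (v : V6) i, (monoMat π c *ᵥ v) (π i) = c i * v i := by
    intro v i
    show ∑ m, monoMat π c (π i) m * v m = _
    rw [Finset.sum_eq_single i]
    · rw [monoMat, if_pos rfl]
    · intro m _ hm
      rw [monoMat, if_neg (fun e => hm (π.injective e).symm), zero_mul]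
    · exact fun h => absurd (Finset.mem_univ i) h
  have hpres : ∀ u v, Cfsg.hermForm 6 K4 2 (monoMat π c *ᵥ u) (monoMat π c *ᵥ v) = Cfsg.hermForm 6 K4 2 u v := by
    intro u v
    unfold Cfsg.hermForm
    rw [← Equiv.sum_comp π (fun k => (monoMat π c *ᵥ u) k * (monoMat π c *ᵥ v) k ^ 2)]
    refine Finset.sum_congr rfl fun i _ => ?_
    rw [happ, happ]
    have hne : c i ≠ 0 := fun e => by
      rw [Finset.prod_eq_zero (Finset.mem_univ i) e] at hc
      exact zero_ne_one hc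
    linear_combination (u i * v i ^ 2) * (cube_units (c i) hne).1
  refine ⟨⟨⟨monoMat π c, (monoMat_det π c).trans hc⟩, hpres⟩, fun i => ?_⟩
  funext k
  rw [col_eq]
  show monoMat π c k i = _
  by_cases hk : k = π i
  · subst hk; simp [monoMat, e]
  · simp [monoMat, e, hk]

/-- the monomial element -/
noncomputable def monoEl (π : Equiv.Perm (Fin 6)) (c : Fin 6 → K4) : SU62 :=
  Classical.epsilon fun g => IsMono g π c

theorem monoEl_spec {π : Equiv.Perm (Fin 6)} {c : Fin 6 → K4} (h : ∏ i, c i = 1) : IsMono (monoEl π c) π c :=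
  Classical.epsilon_spec (p := fun g => IsMono g π c) (exists_mono π c h)

theorem IsMono.unique {g h : SU62} {π : Equiv.Perm (Fin 6)} {c : Fin 6 → K4} (hg : IsMono g π c)
    (hh : IsMono h π c) : g = h :=
  Subtype.ext (Subtype.ext (Matrix.ext fun k i => by rw [hg.entry, hh.entry]))

theorem IsMono.data {g : SU62} {π π' : Equiv.Perm (Fin 6)} {c c' : Fin 6 → K4} (h : IsMono g π c)
    (h' : IsMono g π' c') : π = π' ∧ c = c' := by
  have hπ : π = π' := Equiv.ext fun i => by
    by_contra hne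
    have h1 := h.entry (π i) i
    rw [h'.entry, if_neg hne, if_pos rfl] at h1
    exact h.ne_zero i h1.symm
  subst hπ
  refine ⟨rfl, funext fun i => ?_⟩
  have h1 := h.entry (π i) i
  rw [h'.entry, if_pos rfl, if_pos rfl] at h1
  exact h1.symm

theorem IsMono.one : IsMono 1 1 1 := fun i => by rw [mv_one, Equiv.Perm.one_apply, Pi.one_apply, one_smul]

theorem IsMono.mul {g h : SU62} {π ρ : Equiv.Perm (Fin 6)} {c d : Fin 6 → K4} (hg : IsMono g π c)
    (hh : IsMono h ρ d) : IsMono (g * h) (π * ρ) fun i => c (ρ i) * d i := fun i => by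
  rw [mv_mul, hh i, mv_smul, hg, smul_smul, Equiv.Perm.mul_apply, mul_comm]

theorem IsMono.inv {g : SU62} {π : Equiv.Perm (Fin 6)} {c : Fin 6 → K4} (hg : IsMono g π c) :
    IsMono g⁻¹ π⁻¹ fun i => (c (π⁻¹ i))⁻¹ := fun i => by
  have h := congrArg (mv g⁻¹) (hg (π⁻¹ i))
  rw [mv_inv, mv_smul, show π (π⁻¹ i) = i by simp] at h
  rw [h, smul_smul, inv_mul_cancel₀ (hg.ne_zero _), one_smul]

/-- the monomial elements over a group of permutations -/
def monoSub (P : Subgroup (Equiv.Perm (Fin 6))) : Subgroup SU62 where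
  carrier := {g | ∃ π ∈ P, ∃ c, IsMono g π c}
  one_mem' := ⟨1, one_mem _, 1, IsMono.one⟩
  mul_mem' := fun ⟨π, hπ, c, hc⟩ ⟨ρ, hρ, d, hd⟩ => ⟨π * ρ, mul_mem hπ hρ, _, hc.mul hd⟩
  inv_mem' := fun ⟨π, hπ, c, hc⟩ => ⟨π⁻¹, inv_mem hπ, _, hc.inv⟩

theorem coef_count : Fintype.card {c : V6 // prd c = 1} = 243 := by decide +kernel

theorem monoSub_card (P : Subgroup (Equiv.Perm (Fin 6))) : Nat.card (monoSub P) = 243 * Nat.card P := by
  classical
  have hc1 : ∀ c : {c : V6 // prd c = 1}, ∏ i, c.1 i = 1 := fun c => (prd_prod c.1).symm.trans c.2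
  let f : {c : V6 // prd c = 1} × P → monoSub P := fun p =>
    ⟨monoEl p.2.1 p.1.1, ⟨p.2.1, p.2.2, p.1.1, monoEl_spec (hc1 p.1)⟩⟩
  have hb : Function.Bijective f := by
    constructor
    · intro p q h
      have h' : monoEl p.2.1 p.1.1 = monoEl q.2.1 q.1.1 := congrArg Subtype.val h
      have h1 : IsMono (monoEl p.2.1 p.1.1) p.2.1 p.1.1 := monoEl_spec (hc1 p.1)
      have h2 : IsMono (monoEl q.2.1 q.1.1) q.2.1 q.1.1 := monoEl_spec (hc1 q.1)
      rw [← h'] at h2
      obtain ⟨e1, e2⟩ := h1.data h2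
      exact Prod.ext (Subtype.ext e2) (Subtype.ext e1)
    · intro g
      obtain ⟨π, hπ, c, hc⟩ := g.2
      refine ⟨(⟨c, (prd_prod c).trans hc.prod⟩, ⟨π, hπ⟩), Subtype.ext ?_⟩
      exact IsMono.unique (monoEl_spec (π := π) (c := c) hc.prod) hc
  rw [← Nat.card_congr (Equiv.ofBijective f hb), Nat.card_prod, Nat.card_eq_fintype_card, coef_count]

theorem IsMono.wt_eq {g : SU62} {π : Equiv.Perm (Fin 6)} {c : Fin 6 → K4} (h : IsMono g π c) (v : V6) :
    wt (mv g v) = wt v := by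
  have hn : ∀ a b : K4, a ≠ 0 → nz (a * b) = nz b := by decide +kernel
  rw [wt_sum, wt_sum, ← Equiv.sum_comp π fun k => nz (mv g v k)]
  exact Finset.sum_congr rfl fun i _ => by rw [h.apply, hn _ _ (h.ne_zero i)]

theorem IsMono.prd_eq {g : SU62} {π : Equiv.Perm (Fin 6)} {c : Fin 6 → K4} (h : IsMono g π c) (v : V6) :
    prd (mv g v) = prd v := by
  rw [prd_prod, prd_prod, ← Equiv.prod_comp π fun k => mv g v k]
  simp only [h.apply]
  rw [Finset.prod_mul_distrib, h.prod, one_mul]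

theorem IsMono.inP_iff {g : SU62} {π : Equiv.Perm (Fin 6)} {c : Fin 6 → K4} (h : IsMono g π c) (j : ℕ) (v : V6) :
    InP j (mv g v) ↔ InP j v := by
  unfold InP
  rw [h.wt_eq, h.prd_eq]

theorem wt_smul {a : K4} (ha : a ≠ 0) (v : V6) : wt (a • v) = wt v := by
  have hn : ∀ a b : K4, a ≠ 0 → nz (a * b) = nz b := by decide +kernel
  rw [wt_sum, wt_sum]
  exact Finset.sum_congr rfl fun i _ => hn _ _ ha

theorem prd_smul {a : K4} (ha : a ≠ 0) (v : V6) : prd (a • v) = prd v := by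
  rw [prd_prod, prd_prod]
  simp only [Pi.smul_apply, smul_eq_mul]
  rw [Finset.prod_mul_distrib, Finset.prod_const, Finset.card_univ, Fintype.card_fin, (cube_units a ha).2, one_mul]

theorem inP_smul {a : K4} (ha : a ≠ 0) (j : ℕ) (v : V6) : InP j (a • v) ↔ InP j v := by
  unfold InP
  rw [wt_smul ha, prd_smul ha]

theorem code_vec : ∀ n : Fin 4096, code (vec n) = n := by decide +kernel

theorem all_vec {p : ℕ → Bool} (h : (List.range 4096).all p = true) (v : V6) : p (code v) = true :=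
  List.all_eq_true.mp h _ (List.mem_range.mpr (Fi22USix.code_lt v))

end CfsgLib.USixUFour
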