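import Cfsg.Agent.Lib.USixUFour.Mono
import Cfsg.Agent.Lib.USixUFour.ChkFrameTwo

/-!
The stabilizer of the 126 points in `SU₆(2)` and the subgroup generated by two lifts and the scalars.
-/

set_option autoImplicit false
set_option maxRecDepth 100000

namespace CfsgLib.USixUFour

open Matrix CfsgLib.Leech CfsgLib.CosetEnum
open CfsgLib.HePres (K4)
open CfsgLib.Fi22USix (V6 SU62 el code vec vec_code hval nrm pr mem_pr pr_smul)

theorem pV_spec {i : ℕ} (hi : i < 126) : InP 0 (pV i) ∧ hval (pV i) (pV i) = 0 ∧ pV i ≠ 0 :=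
  of_decide_eq_true (List.all_eq_true.mp pt_ok i (List.mem_range.mpr hi))

theorem el_cases {c : ℕ} (h : c ∈ [1, 2, 3]) : el c ≠ 0 := by
  simp only [List.mem_cons, List.not_mem_nil, or_false] at h
  rcases h with rfl | rfl | rfl
  exacts [Fi22USix.ne_zero_el.1, Fi22USix.ne_zero_el.2.1, Fi22USix.ne_zero_el.2.2]

theorem inP_point {v : V6} (hv : InP 0 v) : ∃ i < 126, ∃ a : K4, a ≠ 0 ∧ v = a • pV i := by
  have h := all_vec pt_all v
  rw [vec_code, decide_eq_true hv, cond_true] at h
  simp only [List.any_eq_true, List.mem_range, Nat.beq_eq] at h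
  obtain ⟨i, hi, c, hc, e⟩ := h
  exact ⟨i, hi, el c, el_cases hc, by rw [← vec_code v, ← e, vec_code]⟩

theorem pr_pV_inj : Function.Injective fun i : Fin 126 => pr (pV i) := by
  intro i j h
  have hm : pV i ∈ pr (pV j) := by
    rw [← show pr (pV i) = pr (pV j) from h]; exact mem_pr.2 ⟨1, one_ne_zero, (one_smul _ _).symm⟩
  obtain ⟨a, ha, e⟩ := mem_pr.1 hm
  have hnd := (List.nodup_flatMap.1 pt_nodup).2
  rw [List.pairwise_iff_getElem] at hnd
  have hmem : ∀ b : K4, b ≠ 0 → ∀ k, code (b • pV k) ∈ [1, 2, 3].map fun c => code (el c • pV k) := by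
    intro b hb k
    rcases Fi22USix.units_cases b hb with rfl | rfl | rfl <;> simp
  by_contra hne
  rcases Nat.lt_or_gt_of_ne (fun e => hne (Fin.ext e)) with hlt | hlt
  · exact hnd i j (by simp) (by simp) hlt (by simpa using hmem 1 one_ne_zero i)
      (by rw [e]; simpa using hmem a ha j)
  · exact hnd j i (by simp) (by simp) hlt (by simpa using hmem a ha j)
      (by rw [← e]; simpa using hmem 1 one_ne_zero i)

theorem exists_tvEl {i : ℕ} (hi : i < 126) : ∃ g : SU62, ∀ x, mv g x = tvF i x := by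
  have hw : Cfsg.hermForm 6 K4 2 (pV i) (pV i) = 0 := by rw [Fi22USix.herm_eq]; exact (pV_spec hi).2.1
  obtain ⟨g, hg⟩ := Classical.USixTwoLift.exists_su K4.card_eq _
    (Classical.USixTwoLift.tv_pres K4.card_eq hw) (by
      rw [show (4 : ℕ) = 2 * 2 from rfl, pow_mul, pow_two (1 + _),
        Classical.USixTwoLift.tv_sq K4.two_eq_zero hw, one_pow])
  refine ⟨g, fun x => ?_⟩
  show (g.1 : Matrix (Fin 6) (Fin 6) K4) *ᵥ x = _
  rw [hg, Matrix.add_mulVec, Matrix.one_mulVec, Classical.USixTwoLift.rk_mulVec, Fi22USix.herm_eq]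
  rfl

/-- a transvection -/
noncomputable def tvEl (i : ℕ) : SU62 := if h : i < 126 then (exists_tvEl h).choose else 1

theorem tvEl_apply {i : ℕ} (hi : i < 126) (x : V6) : mv (tvEl i) x = tvF i x := by
  rw [tvEl, dif_pos hi]; exact (exists_tvEl hi).choose_spec x

/-- the stabilizer of the points -/
noncomputable def stabP : Subgroup SU62 where
  carrier := {g | ∀ v, InP 0 (mv g v) ↔ InP 0 v}
  one_mem' := fun v => by rw [mv_one]
  mul_mem' := fun {g h} hg hh v => by rw [mv_mul, hg, hh]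
  inv_mem' := fun {g} hg v => by rw [← hg, ← mv_mul, mul_inv_cancel, mv_one]

theorem mem_stabP {g : SU62} (h : ∀ v, InP 0 v → InP 0 (mv g v)) : g ∈ stabP := by
  intro v
  refine ⟨fun hv => ?_, h v⟩
  let f : {w // InP 0 w} → {w // InP 0 w} := fun w => ⟨mv g w.1, h w.1 w.2⟩
  have hf : Function.Injective f := fun a b e => Subtype.ext (mv_inj (congrArg Subtype.val e))
  obtain ⟨⟨w, hw⟩, e⟩ := Finite.injective_iff_surjective.mp hf ⟨mv g v, hv⟩
  exact mv_inj (congrArg Subtype.val e) ▸ hw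

theorem tvEl_stab {i : ℕ} (hi : i < 126) : tvEl i ∈ stabP := by
  refine mem_stabP fun v hv => ?_
  obtain ⟨j, hj, a, ha, rfl⟩ := inP_point hv
  rw [mv_smul, inP_smul ha, tvEl_apply hi]
  exact of_decide_eq_true (List.all_eq_true.mp (List.all_eq_true.mp lift_keep i (List.mem_range.mpr hi)) j
    (List.mem_range.mpr hj))

/-- a product of transvections -/
noncomputable def wordEl (w : List ℕ) : SU62 := (w.map tvEl).prod

theorem mv_word : ∀ {w : List ℕ}, (∀ u ∈ w, u < 126) → ∀ v, mv (wordEl w) v = vec (wordC w (code v))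
  | [], _, v => by
    show mv 1 v = vec (code v)
    rw [mv_one, vec_code]
  | u :: w, h, v => by
    obtain ⟨hu, hw⟩ := List.forall_mem_cons.mp h
    show mv (tvEl u * wordEl w) v = vec (strict (wordC w (code v)) fun m => code (tvF u (vec m)))
    rw [strict_eq, vec_code, mv_mul, mv_word hw, tvEl_apply hu]

/-- a lift of a generator -/
noncomputable def lift (j : Fin 2) : SU62 := wordEl (liftW j)

theorem lift_bound (j : Fin 2) : ∀ u ∈ liftW j, u < 126 := fun u hu => by
  have h := List.all_eq_true.mp (List.all_eq_true.mp lift_lt j (List.mem_range.mpr j.2)) u hu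
  rwa [Nat.blt_eq] at h

theorem lift_stab (j : Fin 2) : lift j ∈ stabP :=
  Subgroup.list_prod_mem _ fun y hy => by
    obtain ⟨u, hu, rfl⟩ := List.mem_map.mp hy
    exact tvEl_stab (lift_bound j u hu)

/-- the scalar elements -/
def scalSub : Subgroup SU62 where
  carrier := {g | ∃ a : K4, a ≠ 0 ∧ ∀ v, mv g v = a • v}
  one_mem' := ⟨1, one_ne_zero, fun v => by rw [mv_one, one_smul]⟩
  mul_mem' := fun ⟨a, ha, hg⟩ ⟨b, hb, hh⟩ =>
    ⟨a * b, mul_ne_zero ha hb, fun v => by rw [mv_mul, hh, mv_smul, hg, smul_smul, mul_comm]⟩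
  inv_mem' := fun {g} ⟨a, ha, hg⟩ => ⟨a⁻¹, inv_ne_zero ha, fun v => by
    have h := congrArg (mv g⁻¹) (hg v)
    rw [mv_inv, mv_smul] at h
    conv_rhs => rw [h, smul_smul, inv_mul_cancel₀ ha, one_smul]⟩

theorem scal_stab : scalSub ≤ stabP := by
  rintro g ⟨a, ha, hg⟩ v
  rw [hg, inP_smul ha]

theorem scal_mono {g : SU62} {a : K4} (h : ∀ v, mv g v = a • v) : IsMono g 1 fun _ => a := fun i => h _

theorem exists_scal {a : K4} (ha : a ≠ 0) : ∃ g : SU62, ∀ v, mv g v = a • v := by
  have hp : ∏ _i : Fin 6, a = 1 := by rw [Finset.prod_const, Finset.card_univ, Fintype.card_fin, (cube_units a ha).2]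
  refine ⟨monoEl 1 fun _ => a, fun v => funext fun i => ?_⟩
  have := (monoEl_spec (π := 1) hp).apply v i
  simpa using this

theorem scal_card : Nat.card scalSub = 3 := by
  classical
  let f : {a : K4 // a ≠ 0} → scalSub := fun a => ⟨(exists_scal a.2).choose, a.1, a.2, (exists_scal a.2).choose_spec⟩
  have hb : Function.Bijective f := by
    constructor
    · intro a b h
      have h' := congrArg (fun g : scalSub => mv g.1 (e 0) 0) h
      simp only [f, (exists_scal a.2).choose_spec, (exists_scal b.2).choose_spec] at h'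
      exact Subtype.ext (by simpa [e] using h')
    · rintro ⟨g, a, ha, hg⟩
      exact ⟨⟨a, ha⟩, Subtype.ext (su_ext fun v => by rw [(exists_scal ha).choose_spec, hg])⟩
  rw [← Nat.card_congr (Equiv.ofBijective f hb), Nat.card_eq_fintype_card]
  decide +kernel

theorem scal_comm {g : SU62} (hg : g ∈ scalSub) (h : SU62) : Commute g h := by
  obtain ⟨a, -, ha⟩ := hg
  exact su_ext fun v => by rw [mv_mul, mv_mul, ha, ha, mv_smul]

/-- the subgroup `3.U₄(3)` -/
noncomputable def coreK : Subgroup SU62 := Subgroup.closure (Set.range lift) ⊔ scalSub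

theorem coreK_stab : coreK ≤ stabP :=
  sup_le ((Subgroup.closure_le _).mpr (by rintro _ ⟨j, rfl⟩; exact lift_stab j)) scal_stab

theorem stab_pr {g : SU62} (hg : g ∈ stabP) (i : Fin 126) : ∃ j : Fin 126, pr (mv g (pV i)) = pr (pV j) := by
  obtain ⟨j, hj, a, ha, e⟩ := inP_point ((hg (pV i)).2 (pV_spec i.2).1)
  exact ⟨⟨j, hj⟩, by rw [e, pr_smul ha]⟩

/-- the image of a set of vectors -/
noncomputable def setMove (g : stabP) (S : Finset V6) : Finset V6 := S.image (mv g.1)

theorem setMove_pr (g : stabP) (v : V6) : setMove g (pr v) = pr (mv g.1 v) := by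
  simp [setMove, pr, mv_smul]

theorem exists_pAction : ∃ φ : stabP →* Equiv.Perm (Fin 126),
    ∀ (g : stabP) (i : Fin 126), pr (pV (φ g i)) = pr (mv g.1 (pV i)) := by
  obtain ⟨φ, hφ⟩ := CfsgLib.Schur.exists_familyHom setMove (fun i : Fin 126 => pr (pV i)) pr_pV_inj
    (fun i => by rw [setMove_pr, OneMemClass.coe_one, mv_one])
    (fun g h i => by
      rw [setMove_pr, setMove_pr, Subgroup.coe_mul, mv_mul, setMove_pr])
    (S := Set.univ) (Subgroup.closure_univ) (fun g _ i => by
      obtain ⟨j, hj⟩ := stab_pr g.2 i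
      exact ⟨j, by rw [setMove_pr, hj]⟩)
  exact ⟨φ, fun g i => (hφ g i).trans (setMove_pr g _)⟩

/-- the action on the points -/
noncomputable def pRho : stabP →* Equiv.Perm (Fin 126) := exists_pAction.choose

theorem pRho_spec (g : stabP) (i : Fin 126) : pr (pV (pRho g i)) = pr (mv g.1 (pV i)) :=
  exists_pAction.choose_spec g i

theorem pRho_lift (j : Fin 2) (i : Fin 126) :
    (pRho ⟨lift j, lift_stab j⟩ i : ℕ) = Schur.PermTable.ap (UFour.uElts.P j) i := by
  obtain ⟨hlt, -⟩ := UFour.genChk j i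
  have h := List.all_eq_true.mp (lift_pts j) i (List.mem_range.mpr i.2)
  simp only [List.any_eq_true, Nat.beq_eq] at h
  obtain ⟨c, hc, e⟩ := h
  have e2 : pr (mv (lift j) (pV i)) = pr (pV (⟨_, hlt⟩ : Fin 126)) := by
    rw [lift, mv_word (lift_bound j), pV, show code (vec (at16 ptCodes i)) = at16 ptCodes i from ?_, e, vec_code,
      pr_smul (el_cases hc)]
    have hb : ∀ i : Fin 126, at16 ptCodes i < 4096 := by decide +kernel
    exact code_vec ⟨_, hb i⟩
  exact congrArg Fin.val (pr_pV_inj ((pRho_spec ⟨lift j, lift_stab j⟩ i).trans e2))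

theorem fix_two {g : SU62} (h : ∀ v, InP 0 v → ∃ a : K4, mv g v = a • v) : g ∈ scalSub := by
  have hw : ∀ a b : Fin 6, a ≠ b → ∀ k : Fin 3, InP 0 (e a + el (k + 1) • e b) := by decide +kernel
  have hsum : ∀ a b : Fin 6, a ≠ b →
      (e a + el 1 • e b) + (e a + el 2 • e b) + (e a + el 3 • e b) = e a := by decide +kernel
  have hsupp : ∀ a b : Fin 6, a ≠ b → ∀ k, k ≠ a → k ≠ b → mv g (e a) k = 0 := by
    intro a b hab k hka hkb
    obtain ⟨x, hx⟩ := h _ (hw a b hab 0)
    obtain ⟨y, hy⟩ := h _ (hw a b hab 1)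
    obtain ⟨z, hz⟩ := h _ (hw a b hab 2)
    rw [← hsum a b hab, mv_add, mv_add]
    simp only [Fin.val_zero, Fin.val_one, Fin.val_two, Nat.zero_add, Nat.reduceAdd] at hx hy hz
    rw [hx, hy, hz]
    simp [e, hka, hkb]
  have hdiag : ∀ a, mv g (e a) = mv g (e a) a • e a := by
    intro a
    refine ext_single fun k hk => ?_
    have : ∃ b, b ≠ a ∧ b ≠ k := by revert hk; revert a k; decide
    obtain ⟨b, hb, hbk⟩ := this
    exact hsupp a b (Ne.symm hb) k hk (Ne.symm hbk)
  have heq : ∀ b, mv g (e b) b = mv g (e 0) 0 := by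
    intro b
    by_cases hb : b = 0
    · subst hb; rfl
    obtain ⟨x, hx⟩ := h _ (hw 0 b (Ne.symm hb) 0)
    rw [mv_add, mv_smul, hdiag 0, hdiag b] at hx
    have hel : el ((0 : Fin 3).val + 1) = 1 := by decide +kernel
    rw [hel, one_smul, one_smul] at hx
    have h0 := congrFun hx 0
    have h1 := congrFun hx b
    simp [e, hb, Ne.symm hb] at h0 h1
    exact h1.trans h0.symm
  refine ⟨mv g (e 0) 0, fun h0 => ?_, fun v => ?_⟩
  · have := hdiag 0
    rw [h0, zero_smul, ← mv_zero g] at this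
    have := congrFun (mv_inj this) 0
    simp [e] at this
  · have hm : IsMono g 1 fun _ => mv g (e 0) 0 := fun i => by
      rw [hdiag i, heq i, Equiv.Perm.one_apply]
    funext i
    have := hm.apply v i
    rwa [Equiv.Perm.one_apply] at this

theorem pRho_ker (g : stabP) : pRho g = 1 ↔ (g : SU62) ∈ scalSub := by
  constructor
  · intro hg
    refine fix_two fun v hv => ?_
    obtain ⟨i, hi, a, ha, rfl⟩ := inP_point hv
    have h := pRho_spec g ⟨i, hi⟩
    rw [hg, Equiv.Perm.one_apply] at h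
    have hm : mv g.1 (pV i) ∈ pr (pV i) := by rw [h]; exact mem_pr.2 ⟨1, one_ne_zero, (one_smul _ _).symm⟩
    obtain ⟨b, -, eb⟩ := mem_pr.1 hm
    exact ⟨b, by rw [mv_smul, eb, smul_comm]⟩
  · rintro ⟨a, ha, hg⟩
    refine Equiv.ext fun i => pr_pV_inj ?_
    show pr (pV (pRho g i)) = pr (pV i)
    rw [pRho_spec, hg, pr_smul ha]

end CfsgLib.USixUFour
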